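import Mathlib
import Groth.Agent.Lib.Helper85.AzumayaBaseChange
import Groth.Agent.Lib.Helper85.CSAField
import Groth.Agent.Lib.Helper85.FibreAlgHom

set_option autoImplicit false
set_option linter.style.haveILetI false
open TensorProduct

namespace Groth.Agent.Lib.Helper1.GeoNbhd

universe u v w

/-- surjectivity can be checked on residue field fibres -/
theorem surjective_of_forall_residueField {C : Type u} [CommRing C] {P : Type v} {P' : Type w}
    [AddCommGroup P] [Module C P] [AddCommGroup P'] [Module C P'] [Module.Finite C P']
    (φ : P →ₗ[C] P')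
    (h : ∀ p : PrimeSpectrum C, Function.Surjective (φ.baseChange p.asIdeal.ResidueField)) :
    Function.Surjective φ := by
  rw [← LinearMap.range_eq_top]
  have : Subsingleton (P' ⧸ LinearMap.range φ) := by
    apply Groth.Agent.Lib.Helper85.subsingleton_of_forall_residueField_tensor C
    intro p
    have hz : ∀ z : p.asIdeal.ResidueField ⊗[C] (P' ⧸ LinearMap.range φ), z = 0 := by
      intro z
      obtain ⟨y, rfl⟩ := LinearMap.lTensor_surjective p.asIdeal.ResidueField
        (LinearMap.range φ).mkQ_surjective z
      obtain ⟨x, rfl⟩ := h p y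
      have h0 : (LinearMap.range φ).mkQ ∘ₗ φ = 0 := by
        ext x
        simp
      have := congrArg (fun f => LinearMap.baseChange p.asIdeal.ResidueField f x) h0
      simp only [LinearMap.baseChange_comp, LinearMap.baseChange_zero, LinearMap.zero_apply,
        LinearMap.comp_apply] at this
      exact this
    exact ⟨fun a b => by rw [hz a, hz b]⟩
  exact Submodule.Quotient.subsingleton_iff.mp this

/-- an algebra homomorphism from an Azumaya algebra of degree `n` to the matrix algebra of size `n`
is bijective -/
theorem algHom_bijective_of_azumaya (C : Type u) [CommRing C] (X : Type v) [Ring X] [Algebra C X]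
    [IsAzumaya C X] (n : ℕ) (hn : 0 < n)
    (hrk : ∀ p : PrimeSpectrum C, Module.rankAtStalk X p = n ^ 2)
    (F : X →ₐ[C] Matrix (Fin n) (Fin n) C) : Function.Bijective F := by
  classical
  rcases subsingleton_or_nontrivial C with hC | hC
  · haveI : Subsingleton X := Module.subsingleton C X
    haveI : Subsingleton (Matrix (Fin n) (Fin n) C) := Module.subsingleton C _
    exact ⟨fun a b _ => Subsingleton.elim a b, fun y => ⟨0, Subsingleton.elim _ _⟩⟩
  have hsurj : Function.Surjective F.toLinearMap := by
    apply surjective_of_forall_residueField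
    intro p
    let k := p.asIdeal.ResidueField
    let Θ : k ⊗[C] X →ₐ[k] k ⊗[C] Matrix (Fin n) (Fin n) C :=
      Algebra.TensorProduct.map (AlgHom.id k k) F
    have hΘ : ∀ z, Θ z = F.toLinearMap.baseChange k z := by
      intro z
      induction z using TensorProduct.induction_on with
      | zero => simp
      | add x y hx hy => rw [map_add, map_add, hx, hy]
      | tmul s b => simp [Θ]
    haveI : IsAzumaya k (k ⊗[C] X) := Groth.Agent.Lib.Helper85.isAzumaya_baseChange C k X
    haveI : IsSimpleRing (k ⊗[C] X) := Groth.Agent.Lib.Helper85.isSimpleRing_of_isAzumaya k _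
    have hfr2 : Module.finrank k (k ⊗[C] Matrix (Fin n) (Fin n) C) = n ^ 2 := by
      rw [Module.finrank_baseChange, Module.finrank_matrix]; simp [sq]
    haveI : Nontrivial (k ⊗[C] Matrix (Fin n) (Fin n) C) :=
      Module.nontrivial_of_finrank_pos (R := k) (by rw [hfr2]; positivity)
    have hinj : Function.Injective Θ := RingHom.injective Θ.toRingHom
    have hfr1 : Module.finrank k (k ⊗[C] X) = n ^ 2 := by
      rw [← hrk p, Module.rankAtStalk_eq]
    have hs : Function.Surjective Θ.toLinearMap :=
      (LinearMap.injective_iff_surjective_of_finrank_eq_finrank (f := Θ.toLinearMap)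
        (by rw [hfr1, hfr2])).mp hinj
    intro y
    obtain ⟨x, hx⟩ := hs y
    exact ⟨x, by rw [← hΘ]; exact hx⟩
  refine Module.bijective_of_surjective_of_rankAtStalk_eq (φ := F.toLinearMap) hsurj ?_
  intro m hm
  rw [hrk]
  have := congrFun (Module.rankAtStalk_eq_finrank_of_free (R := C)
    (M := Matrix (Fin n) (Fin n) C)) ⟨m, inferInstance⟩
  rw [this, Module.finrank_matrix]
  simp [sq]

end Groth.Agent.Lib.Helper1.GeoNbhd
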