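import Mathlib

set_option autoImplicit false
open Polynomial TensorProduct

namespace Groth.Agent.Lib.Helper1.GeoNbhd

universe u v w x y

section
variable {S : Type u} [CommRing S] {n : ℕ} (m k : ℕ) (hn : n = m + k) (p : MonicDegreeEq S n)

theorem homEquiv_id_fst :
    ((UniversalCoprimeFactorizationRing.homEquiv (UniversalCoprimeFactorizationRing m k hn p)
      m k hn p (AlgHom.id S _)).1.1 : MonicDegreeEq _ m) =
      UniversalCoprimeFactorizationRing.factor₁ m k hn p := by
  ext1
  simp [UniversalCoprimeFactorizationRing.homEquiv, UniversalFactorizationRing.homEquiv,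
    UniversalCoprimeFactorizationRing.factor₁, MonicDegreeEq.map]

theorem homEquiv_id_snd :
    ((UniversalCoprimeFactorizationRing.homEquiv (UniversalCoprimeFactorizationRing m k hn p)
      m k hn p (AlgHom.id S _)).1.2 : MonicDegreeEq _ k) =
      UniversalCoprimeFactorizationRing.factor₂ m k hn p := by
  ext1
  simp [UniversalCoprimeFactorizationRing.homEquiv, UniversalFactorizationRing.homEquiv,
    UniversalCoprimeFactorizationRing.factor₂, MonicDegreeEq.map]
end

/-- lifting a coprime factorization at a geometric point -/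
theorem exists_etale_factorization (S : Type u) [CommRing S] (K : Type v) [Field K] [Algebra S K]
    (G : S[X]) (hG : G.Monic) (g0 h0 : K[X]) (hg0 : g0.Monic) (hh0 : h0.Monic)
    (hfac : g0 * h0 = G.map (algebraMap S K)) (hcop : IsCoprime g0 h0) :
    ∃ (T : Type u) (_ : CommRing T) (_ : Algebra S T) (_ : Algebra.Etale S T) (ψ : T →ₐ[S] K)
      (g h : T[X]), g.Monic ∧ h.Monic ∧ g * h = G.map (algebraMap S T) ∧ IsCoprime g h ∧
        g.map ψ.toRingHom = g0 ∧ h.map ψ.toRingHom = h0 := by
  classical
  set m := g0.natDegree with hm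
  set k := h0.natDegree with hk
  have hn : G.natDegree = m + k := by
    have := congrArg natDegree hfac
    rw [hg0.natDegree_mul hh0, hG.natDegree_map] at this
    exact this.symm
  let p : MonicDegreeEq S G.natDegree := .mk G hG rfl
  let q1 : MonicDegreeEq K m := .mk g0 hg0 rfl
  let q2 : MonicDegreeEq K k := .mk h0 hh0 rfl
  let ψ : UniversalCoprimeFactorizationRing m k hn p →ₐ[S] K :=
    (UniversalCoprimeFactorizationRing.homEquiv K m k hn p).symm ⟨(q1, q2), hfac, hcop⟩
  have hψ : (UniversalCoprimeFactorizationRing.homEquiv K m k hn p) ψ = ⟨(q1, q2), hfac, hcop⟩ :=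
    Equiv.apply_symm_apply _ _
  refine ⟨UniversalCoprimeFactorizationRing m k hn p, inferInstance, inferInstance, inferInstance,
    ψ, (UniversalCoprimeFactorizationRing.factor₁ m k hn p).1,
    (UniversalCoprimeFactorizationRing.factor₂ m k hn p).1,
    (UniversalCoprimeFactorizationRing.factor₁ m k hn p).monic,
    (UniversalCoprimeFactorizationRing.factor₂ m k hn p).monic,
    UniversalCoprimeFactorizationRing.factor₁_mul_factor₂ m k hn p,
    UniversalCoprimeFactorizationRing.isCoprime_factor₁_factor₂ m k hn p, ?_, ?_⟩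
  · have h1 := UniversalCoprimeFactorizationRing.homEquiv_comp_fst
      (UniversalCoprimeFactorizationRing m k hn p) m k hn p
      (AlgHom.id S (UniversalCoprimeFactorizationRing m k hn p)) ψ
    rw [AlgHom.comp_id, hψ, homEquiv_id_fst] at h1
    have h2 := congrArg Subtype.val h1
    exact h2.symm
  · have h1 := UniversalCoprimeFactorizationRing.homEquiv_comp_snd
      (UniversalCoprimeFactorizationRing m k hn p) m k hn p
      (AlgHom.id S (UniversalCoprimeFactorizationRing m k hn p)) ψ
    rw [AlgHom.comp_id, hψ, homEquiv_id_snd] at h1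
    have h2 := congrArg Subtype.val h1
    exact h2.symm


section Idem
variable {S : Type u} [CommRing S] {T : Type v} [CommRing T] [Algebra S T]
  {B : Type w} [Ring B] [Algebra S B]

theorem aeval_one_tmul_map (b : B) (p : S[X]) :
    aeval ((1 : T) ⊗ₜ[S] b) (p.map (algebraMap S T)) = (1 : T) ⊗ₜ[S] (aeval b p) := by
  rw [aeval_map_algebraMap]
  have : ((1 : T) ⊗ₜ[S] b) = (Algebra.TensorProduct.includeRight : B →ₐ[S] T ⊗[S] B) b := rfl
  rw [this, aeval_algHom_apply]
  rfl

/-- the idempotent of `T ⊗ B` attached to a coprime factorization of a polynomial killing `b` -/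
theorem isIdempotentElem_aeval (b : B) (G : S[X]) (hGb : aeval b G = 0) (g h u v : T[X])
    (hgh : g * h = G.map (algebraMap S T)) (huv : u * g + v * h = 1) :
    IsIdempotentElem (aeval ((1 : T) ⊗ₜ[S] b) (v * h)) := by
  have h0 : aeval ((1 : T) ⊗ₜ[S] b) (G.map (algebraMap S T)) = 0 := by
    rw [aeval_one_tmul_map, hGb, tmul_zero]
  have h1 : (v * h) * (v * h) = v * h - u * v * (G.map (algebraMap S T)) := by
    rw [← hgh]
    have : v * h = 1 - u * g := by rw [← huv]; ring
    calc (v * h) * (v * h) = (v * h) * (1 - u * g) := by rw [← this]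
      _ = v * h - u * v * (g * h) := by ring
  unfold IsIdempotentElem
  rw [← map_mul, h1, map_sub, map_mul (aeval ((1 : T) ⊗ₜ[S] b)) (u * v), h0, mul_zero, sub_zero]

end Idem

section Eval
variable {S : Type u} [CommRing S] {T : Type v} [CommRing T] [Algebra S T]
  {B : Type w} [Ring B] [Algebra S B] {K : Type x} [Field K] [Algebra S K]
  {D : Type y} [Ring D] [Algebra K D] [Algebra S D] [IsScalarTower S K D]

/-- evaluation of `T ⊗ B` at a geometric point -/
noncomputable def geoEval (ψ : T →ₐ[S] K) (φ : B →ₐ[S] D) : T ⊗[S] B →ₐ[S] D :=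
  Algebra.TensorProduct.lift (((Algebra.ofId K D).restrictScalars S).comp ψ) φ
    (fun _ _ => Algebra.commute_algebraMap_left _ _)

@[simp] theorem geoEval_tmul (ψ : T →ₐ[S] K) (φ : B →ₐ[S] D) (t : T) (b : B) :
    geoEval ψ φ (t ⊗ₜ[S] b) = algebraMap K D (ψ t) * φ b := by
  simp [geoEval, Algebra.ofId_apply]

theorem geoEval_aeval (ψ : T →ₐ[S] K) (φ : B →ₐ[S] D) (b : B) (p : T[X]) :
    geoEval ψ φ (aeval ((1 : T) ⊗ₜ[S] b) p) = aeval (φ b) (p.map ψ.toRingHom) := by
  induction p using Polynomial.induction_on' with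
  | add p q hp hq => rw [map_add, map_add, hp, hq, Polynomial.map_add, map_add]
  | monomial n t =>
    rw [aeval_monomial, map_mul, map_pow, Polynomial.map_monomial, aeval_monomial,
      Algebra.TensorProduct.algebraMap_apply, geoEval_tmul, geoEval_tmul]
    simp

end Eval


section Spectral
variable {K : Type x} [Field K] {n : ℕ}

theorem aeval_diagonal (μ : Fin n → K) (p : K[X]) :
    aeval (Matrix.diagonal μ) p = Matrix.diagonal (fun i => p.eval (μ i)) := by
  have h1 : Matrix.diagonal μ = Matrix.diagonalAlgHom K μ := rfl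
  rw [h1, aeval_algHom_apply, aeval_pi]
  show Matrix.diagonal _ = _
  congr 1

/-- the spectral idempotent of a diagonal matrix with distinct entries -/
theorem spectral_diagonal (μ : Fin n → K) (hμ : Function.Injective μ) (i0 : Fin n) (GK : K[X])
    (hG : aeval (Matrix.diagonal μ) GK = 0) (k : ℕ) (hk : 0 < k) (h0 u0 v0 : K[X])
    (hfac : (X - C (μ i0)) ^ k * h0 = GK) (huv : u0 * (X - C (μ i0)) ^ k + v0 * h0 = 1) :
    aeval (Matrix.diagonal μ) (v0 * h0) = Matrix.single i0 i0 (1 : K) := by
  rw [aeval_diagonal, ← Matrix.diagonal_single]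
  congr 1
  funext i
  rw [aeval_diagonal] at hG
  have hGi : GK.eval (μ i) = 0 := by
    have := congrFun (congrFun hG i) i
    simpa using this
  by_cases hi : i = i0
  · subst hi
    have := congrArg (Polynomial.eval (μ i)) huv
    simp only [eval_add, eval_mul, eval_pow, eval_sub, eval_X, eval_C, sub_self, eval_one,
      zero_pow hk.ne', mul_zero, zero_add] at this
    simp [this]
  · have h1 : (μ i - μ i0) ^ k ≠ 0 := pow_ne_zero _ (sub_ne_zero.mpr (fun h => hi (hμ h)))
    have h2 : h0.eval (μ i) = 0 := by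
      have := congrArg (Polynomial.eval (μ i)) hfac
      simp only [eval_mul, eval_pow, eval_sub, eval_X, eval_C, hGi] at this
      exact (mul_eq_zero.mp this).resolve_left h1
    simp [h2, hi]

end Spectral

section LiftIdem

/-- lifting the spectral idempotent of a diagonalizable element at a geometric point to an étale
neighbourhood -/
theorem exists_etale_idempotent
    (S : Type u) [CommRing S] (B : Type w) [Ring B] [Algebra S B]
    (K : Type x) [Field K] [Algebra S K] {n : ℕ}
    (φ : B →ₐ[S] Matrix (Fin n) (Fin n) K) (b : B) (hb : IsIntegral S b)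
    (μ : Fin n → K) (hμ : Function.Injective μ) (hφb : φ b = Matrix.diagonal μ) (i0 : Fin n) :
    ∃ (T : Type u) (_ : CommRing T) (_ : Algebra S T) (_ : Algebra.Etale S T) (ψ : T →ₐ[S] K)
      (e : T ⊗[S] B), IsIdempotentElem e ∧ geoEval ψ φ e = Matrix.single i0 i0 (1 : K) := by
  obtain ⟨G, hGm, hGb⟩ := hb
  have hGb' : aeval b G = 0 := hGb
  set GK : K[X] := G.map (algebraMap S K) with hGK
  have hGKm : GK.Monic := hGm.map _
  have hGKφ : aeval (Matrix.diagonal μ) GK = 0 := by
    rw [← hφb, hGK, aeval_map_algebraMap, aeval_algHom_apply, hGb', map_zero]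
  have hroot : GK.IsRoot (μ i0) := by
    rw [aeval_diagonal] at hGKφ
    have := congrFun (congrFun hGKφ i0) i0
    simpa using this
  set k := GK.rootMultiplicity (μ i0) with hk
  have hkpos : 0 < k := (rootMultiplicity_pos hGKm.ne_zero).mpr hroot
  obtain ⟨h0, hfac, hndvd⟩ := exists_eq_pow_rootMultiplicity_mul_and_not_dvd GK hGKm.ne_zero (μ i0)
  have hg0m : ((X - C (μ i0)) ^ k).Monic := (monic_X_sub_C _).pow _
  have hh0m : h0.Monic := by
    have : ((X - C (μ i0)) ^ k * h0).Monic := by rw [← hk] at hfac; rw [← hfac]; exact hGKm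
    exact hg0m.of_mul_monic_left this
  have hcop : IsCoprime ((X - C (μ i0)) ^ k) h0 :=
    IsCoprime.pow_left ((irreducible_X_sub_C (μ i0)).coprime_iff_not_dvd.mpr hndvd)
  obtain ⟨T, _, _, _, ψ, g, h, -, -, hgh, hcop', hg, hh⟩ :=
    exists_etale_factorization S K G hGm ((X - C (μ i0)) ^ k) h0 hg0m hh0m
      (by rw [← hGK, hk]; exact hfac.symm) hcop
  obtain ⟨u, v, huv⟩ := hcop'
  refine ⟨T, inferInstance, inferInstance, inferInstance, ψ, aeval ((1 : T) ⊗ₜ[S] b) (v * h),
    isIdempotentElem_aeval b G hGb' g h u v hgh huv, ?_⟩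
  rw [geoEval_aeval, hφb, Polynomial.map_mul, hh]
  apply spectral_diagonal μ hμ i0 GK hGKφ k hkpos h0 (u.map ψ.toRingHom) (v.map ψ.toRingHom)
  · rw [hk]; exact hfac.symm
  · have := congrArg (Polynomial.map ψ.toRingHom) huv
    rw [Polynomial.map_add, Polynomial.map_mul, Polynomial.map_mul, hg, hh, Polynomial.map_one]
      at this
    exact this

end LiftIdem

end Groth.Agent.Lib.Helper1.GeoNbhd
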