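import Mathlib
import Groth.Agent.Lib.Helper1.GeoNbhd.GeoLift

/-!
# Tools for étale neighbourhoods of a geometric point

* functoriality of `geoEval`
* the common refinement `T₁ ⊗ T₂` of two neighbourhoods
* separating two geometric points of a commutative integral algebra by an idempotent
* the local ring of a neighbourhood at the geometric point
-/

set_option autoImplicit false
open Polynomial TensorProduct

namespace Groth.Agent.Lib.Helper1.GeoNbhd

universe u v w x y

section Functorial
variable {S : Type u} [CommRing S] {T : Type v} [CommRing T] [Algebra S T]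
  {T' : Type w} [CommRing T'] [Algebra S T']
  {B : Type x} [Ring B] [Algebra S B] {K : Type y} [Field K] [Algebra S K]
  {D : Type*} [Ring D] [Algebra K D] [Algebra S D] [IsScalarTower S K D]

theorem geoEval_map (f : T →ₐ[S] T') (ψ : T' →ₐ[S] K) (φ : B →ₐ[S] D) (z : T ⊗[S] B) :
    geoEval ψ φ (Algebra.TensorProduct.map f (AlgHom.id S B) z) = geoEval (ψ.comp f) φ z := by
  induction z using TensorProduct.induction_on with
  | zero => simp
  | add a b ha hb => rw [map_add, map_add, map_add, ha, hb]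
  | tmul t b => simp

theorem isIdempotentElem_map (f : T →ₐ[S] T') {z : T ⊗[S] B} (hz : IsIdempotentElem z) :
    IsIdempotentElem (Algebra.TensorProduct.map f (AlgHom.id S B) z) :=
  hz.map _

end Functorial

section Combine
variable {S : Type u} [CommRing S] {T₁ : Type u} [CommRing T₁] [Algebra S T₁]
  {T₂ : Type u} [CommRing T₂] [Algebra S T₂] {K : Type y} [Field K] [Algebra S K]

/-- the product point of `T₁ ⊗ T₂` -/
noncomputable def prodPt (ψ₁ : T₁ →ₐ[S] K) (ψ₂ : T₂ →ₐ[S] K) : T₁ ⊗[S] T₂ →ₐ[S] K :=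
  Algebra.TensorProduct.lift ψ₁ ψ₂ (fun _ _ => Commute.all _ _)

theorem prodPt_comp_left (ψ₁ : T₁ →ₐ[S] K) (ψ₂ : T₂ →ₐ[S] K) :
    (prodPt ψ₁ ψ₂).comp Algebra.TensorProduct.includeLeft = ψ₁ := by
  ext t
  simp [prodPt]

theorem prodPt_comp_right (ψ₁ : T₁ →ₐ[S] K) (ψ₂ : T₂ →ₐ[S] K) :
    (prodPt ψ₁ ψ₂).comp Algebra.TensorProduct.includeRight = ψ₂ := by
  ext t
  simp [prodPt]

instance etale_tensor [Algebra.Etale S T₁] [Algebra.Etale S T₂] :
    Algebra.Etale S (T₁ ⊗[S] T₂) :=
  haveI : Algebra.Etale T₁ (T₁ ⊗[S] T₂) := Algebra.Etale.baseChange S T₂ T₁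
  Algebra.Etale.comp S T₁ (T₁ ⊗[S] T₂)

end Combine

section Sep
variable (S : Type u) [CommRing S] (B : Type w) [CommRing B] [Algebra S B]
  (K : Type y) [Field K] [Algebra S K]

/-- the diagonal embedding attached to a family of points -/
noncomputable def diagHom {n : ℕ} (χ : Fin n → (B →ₐ[S] K)) :
    B →ₐ[S] Matrix (Fin n) (Fin n) K :=
  (Matrix.diagonalAlgHom S).comp (AlgHom.pi χ)

variable {S B K}

theorem diagHom_apply {n : ℕ} (χ : Fin n → (B →ₐ[S] K)) (b : B) :
    diagHom S B K χ b = Matrix.diagonal (fun i => χ i b) := rfl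

theorem geoEval_diagHom {T : Type v} [CommRing T] [Algebra S T] {n : ℕ}
    (χ : Fin n → (B →ₐ[S] K)) (ψ : T →ₐ[S] K) (z : T ⊗[S] B) :
    geoEval ψ (diagHom S B K χ) z = Matrix.diagonal (fun i => geoEval ψ (χ i) z) := by
  induction z using TensorProduct.induction_on with
  | zero => simp
  | add a b ha hb =>
    rw [map_add, ha, hb, Matrix.diagonal_add]
    congr 1
    funext i
    simp
  | tmul t b =>
    rw [geoEval_tmul, diagHom_apply]
    ext i j
    by_cases hij : i = j
    · subst hij
      simp [Matrix.algebraMap_matrix_apply]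
    · simp [Matrix.algebraMap_matrix_apply, hij]

variable (S B K) in
/-- separating two geometric points of a commutative algebra by an idempotent on an étale
neighbourhood -/
theorem exists_etale_sep (χ₁ χ₂ : B →ₐ[S] K) (r : B) (hr : IsIntegral S r) (hne : χ₁ r ≠ χ₂ r) :
    ∃ (T : Type u) (_ : CommRing T) (_ : Algebra S T) (_ : Algebra.Etale S T) (ψ : T →ₐ[S] K)
      (c : T ⊗[S] B), IsIdempotentElem c ∧ geoEval ψ χ₁ c = 1 ∧ geoEval ψ χ₂ c = 0 := by
  let χ : Fin 2 → (B →ₐ[S] K) := ![χ₁, χ₂]
  have hμ : Function.Injective (fun i => χ i r) := by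
    intro i j hij
    fin_cases i <;> fin_cases j <;> simp_all [χ]
  obtain ⟨T, _, _, _, ψ, c, hc, hev⟩ :=
    exists_etale_idempotent S B K (diagHom S B K χ) r hr (fun i => χ i r) hμ
      (diagHom_apply χ r) 0
  refine ⟨T, inferInstance, inferInstance, inferInstance, ψ, c, hc, ?_, ?_⟩
  · rw [geoEval_diagHom] at hev
    have := congrFun (congrFun hev 0) 0
    simpa [χ] using this
  · rw [geoEval_diagHom] at hev
    have := congrFun (congrFun hev 1) 1
    simpa [χ] using this

end Sep


section Local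
variable {S : Type u} [CommRing S] {T : Type v} [CommRing T] [Algebra S T]
  {K : Type y} [Field K] [Algebra S K] (ψ : T →ₐ[S] K)

/-- the kernel of a geometric point -/
abbrev kerPt : Ideal T := RingHom.ker ψ.toRingHom

instance kerPt_isPrime : (kerPt ψ).IsPrime := RingHom.ker_isPrime _

/-- the local ring of a neighbourhood at its geometric point -/
abbrev LocPt : Type v := Localization.AtPrime (kerPt ψ)

example : Algebra S (LocPt ψ) := inferInstance
example : IsScalarTower S T (LocPt ψ) := inferInstance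
example : IsLocalRing (LocPt ψ) := inferInstance

/-- the geometric point of the local ring -/
noncomputable def locPt : LocPt ψ →ₐ[S] K :=
  IsLocalization.liftAlgHom (M := (kerPt ψ).primeCompl) (f := ψ) (fun y => by
    have : ψ y ≠ 0 := fun h => y.2 (by simpa [kerPt, RingHom.mem_ker] using h)
    exact isUnit_iff_ne_zero.mpr this)

@[simp] theorem locPt_algebraMap (t : T) : locPt ψ (algebraMap T (LocPt ψ) t) = ψ t := by
  simp [locPt, IsLocalization.liftAlgHom]

theorem locPt_comp : (locPt ψ).comp (IsScalarTower.toAlgHom S T (LocPt ψ)) = ψ := by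
  ext t
  simp

theorem ker_locPt : RingHom.ker (locPt ψ).toRingHom = IsLocalRing.maximalIdeal (LocPt ψ) := by
  have hmax : (RingHom.ker (locPt ψ).toRingHom).IsPrime := RingHom.ker_isPrime _
  refine le_antisymm (IsLocalRing.le_maximalIdeal hmax.ne_top) ?_
  intro x hx
  obtain ⟨t, s, rfl⟩ := IsLocalization.exists_mk'_eq (kerPt ψ).primeCompl x
  rw [IsLocalization.AtPrime.mk'_mem_maximal_iff (LocPt ψ) (kerPt ψ)] at hx
  rw [RingHom.mem_ker, AlgHom.toRingHom_eq_coe, RingHom.coe_coe]
  have h1 : locPt ψ (IsLocalization.mk' (LocPt ψ) t s) * ψ s = ψ t := by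
    rw [← locPt_algebraMap ψ (s : T), ← map_mul, IsLocalization.mk'_spec, locPt_algebraMap]
  have h2 : ψ t = 0 := by simpa [kerPt, RingHom.mem_ker] using hx
  have h3 : ψ s ≠ 0 := fun h => s.2 (by simpa [kerPt, RingHom.mem_ker] using h)
  rw [h2] at h1
  exact (mul_eq_zero.mp h1).resolve_right h3

end Local

end Groth.Agent.Lib.Helper1.GeoNbhd
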