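import Mathlib
import Groth.Agent.Lib.Helper1.GeoNbhd.GeoTools

set_option autoImplicit false
set_option linter.style.haveILetI false
open Polynomial TensorProduct

namespace Groth.Agent.Lib.Helper1.GeoNbhd

universe u v w x y

section MaxIdeals
variable {S : Type u} [CommRing S] {L : Type v} [CommRing L] [Algebra S L] [IsLocalRing L]
  {K : Type y} [Field K] [IsAlgClosed K] [Algebra S K]
  {B : Type w} [CommRing B] [Algebra S B] [Algebra.IsIntegral S B]

/-- every maximal ideal of `L ⊗ B` (with `L` local, `B` integral) is the kernel of a geometric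
point -/
theorem exists_point_of_isMaximal (ψ : L →ₐ[S] K)
    (hψ : RingHom.ker ψ.toRingHom = IsLocalRing.maximalIdeal L)
    (M : Ideal (L ⊗[S] B)) [hM : M.IsMaximal] :
    ∃ χ : B →ₐ[S] K, M = RingHom.ker (geoEval ψ χ).toRingHom := by
  classical
  set U := L ⊗[S] B
  set m : Ideal L := M.comap (algebraMap L U) with hm
  have hmmax : m.IsMaximal := Ideal.isMaximal_comap_of_isIntegral_of_isMaximal M
  have hmeq : m = IsLocalRing.maximalIdeal L := IsLocalRing.eq_maximalIdeal hmmax
  haveI : M.LiesOver m := ⟨rfl⟩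
  letI : Field (L ⧸ m) := Ideal.Quotient.field m
  letI : Field (U ⧸ M) := Ideal.Quotient.field M
  -- the residue field of `L` maps to `K`
  let ψbar : L ⧸ m →+* K := Ideal.Quotient.lift m ψ.toRingHom (fun a ha => by
    have : a ∈ RingHom.ker ψ.toRingHom := by rw [hψ, ← hmeq]; exact ha
    exact this)
  letI : Algebra (L ⧸ m) K := ψbar.toAlgebra
  haveI : Algebra.IsIntegral (L ⧸ m) (U ⧸ M) := inferInstance
  let σ : (U ⧸ M) →ₐ[L ⧸ m] K := IsAlgClosed.lift
  let ρ : U →+* K := σ.toRingHom.comp (Ideal.Quotient.mk M)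
  have hρker : RingHom.ker ρ = M := by
    ext z
    rw [RingHom.mem_ker]
    show σ (Ideal.Quotient.mk M z) = 0 ↔ z ∈ M
    rw [map_eq_zero_iff σ σ.toRingHom.injective, Ideal.Quotient.eq_zero_iff_mem]
  have hρL : ∀ l : L, ρ (algebraMap L U l) = ψ l := by
    intro l
    show σ (Ideal.Quotient.mk M (algebraMap L U l)) = ψ l
    have h1 : Ideal.Quotient.mk M (algebraMap L U l) =
        algebraMap (L ⧸ m) (U ⧸ M) (Ideal.Quotient.mk m l) := rfl
    rw [h1, σ.commutes]
    rfl
  let χ : B →ₐ[S] K :=
    { toRingHom := ρ.comp (Algebra.TensorProduct.includeRight : B →ₐ[S] U).toRingHom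
      commutes' := fun s => by
        show ρ ((Algebra.TensorProduct.includeRight : B →ₐ[S] U) (algebraMap S B s)) = _
        rw [AlgHom.commutes, IsScalarTower.algebraMap_apply S L U, hρL, AlgHom.commutes] }
  refine ⟨χ, ?_⟩
  rw [← hρker]
  congr 1
  refine RingHom.ext fun z => ?_
  show ρ z = geoEval ψ χ z
  induction z using TensorProduct.induction_on with
  | zero => simp
  | add a b ha hb => rw [map_add, map_add, ha, hb]
  | tmul l b =>
    rw [geoEval_tmul]
    have h1 : (l ⊗ₜ[S] b : U) = algebraMap L U l * (1 : L) ⊗ₜ[S] b := by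
      rw [Algebra.TensorProduct.algebraMap_apply, Algebra.TensorProduct.tmul_mul_tmul]
      simp
    rw [h1, map_mul, hρL]
    rfl

end MaxIdeals

end Groth.Agent.Lib.Helper1.GeoNbhd
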