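import Mathlib

set_option autoImplicit false
open TensorProduct

namespace Groth.Agent.Lib.Helper1.GeoNbhd

universe u v w

/-- the geometric points of `R` over a geometric point of the fixed ring of an involution form a
single orbit -/
theorem eq_or_eq_comp_of_fixed {S : Type u} {R : Type v} {K : Type w} [CommRing S] [CommRing R]
    [Algebra S R] [CommRing K] [IsDomain K] [Algebra S K] (lam : R ≃ₐ[S] R)
    (hlam : ∀ r, lam (lam r) = r) (hfix : ∀ r, lam r = r → r ∈ Set.range (algebraMap S R))
    (χ₁ χ : R →ₐ[S] K) : χ = χ₁ ∨ χ = χ₁.comp (lam : R →ₐ[S] R) := by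
  have hagree : ∀ r, lam r = r → χ r = χ₁ r := by
    intro r hr
    obtain ⟨s, rfl⟩ := hfix r hr
    rw [AlgHom.commutes, AlgHom.commutes]
  have hkey : ∀ r, χ r = χ₁ r ∨ χ r = χ₁ (lam r) := by
    intro r
    have h1 : χ (r + lam r) = χ₁ (r + lam r) := hagree _ (by rw [map_add, hlam, add_comm])
    have h2 : χ (r * lam r) = χ₁ (r * lam r) := hagree _ (by rw [map_mul, hlam, mul_comm])
    have h3 : (χ r - χ₁ r) * (χ r - χ₁ (lam r)) = 0 := by
      have : (χ r - χ₁ r) * (χ r - χ₁ (lam r)) =
          χ r * χ r - χ r * χ₁ (r + lam r) + χ₁ (r * lam r) := by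
        rw [map_add, map_mul]; ring
      rw [this, ← h1, ← h2, ← map_mul, ← map_mul, ← map_sub, ← map_add]
      have : r * r - r * (r + lam r) + r * lam r = 0 := by ring
      rw [this, map_zero]
    rcases mul_eq_zero.mp h3 with h | h
    · exact Or.inl (sub_eq_zero.mp h)
    · exact Or.inr (sub_eq_zero.mp h)
  by_contra hcon
  push Not at hcon
  obtain ⟨h1, h2⟩ := hcon
  have : ∃ a, χ a ≠ χ₁ a := by
    by_contra h
    push Not at h
    exact h1 (AlgHom.ext h)
  obtain ⟨a, ha⟩ := this
  have : ∃ b, χ b ≠ χ₁ (lam b) := by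
    by_contra h
    push Not at h
    exact h2 (AlgHom.ext h)
  obtain ⟨b, hb⟩ := this
  have ha' : χ a = χ₁ (lam a) := (hkey a).resolve_left ha
  have hb' : χ b = χ₁ b := (hkey b).resolve_right hb
  rcases hkey (a + b) with h | h
  · rw [map_add, map_add, hb'] at h
    exact ha (add_right_cancel h)
  · rw [map_add, map_add, map_add, ha'] at h
    exact hb (add_left_cancel h)

end Groth.Agent.Lib.Helper1.GeoNbhd
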