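import Mathlib
import Groth.Agent.Lib.Helper85.AzumayaBaseChange
import Groth.Agent.Lib.Helper85.CSAField
import Groth.Agent.Lib.Helper1.CSA.RegularElt
import Groth.Agent.Lib.Helper1.CSA.AzRegular
import Groth.Agent.Lib.Helper1.CSA.AzSpread

set_option autoImplicit false
set_option linter.style.haveILetI false
open TensorProduct Polynomial

namespace Groth.Agent.Lib.Helper1.GeoNbhd

universe u v w x

/-- clearing denominators in the fibre of a module over a prime -/
theorem exists_smul_eq_one_tmul_module {R : Type v} [CommRing R] (q : Ideal R) [hqp : q.IsPrime]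
    {M : Type w} [AddCommGroup M] [Module R M] (x : q.ResidueField ⊗[R] M) :
    ∃ s : R, s ∉ q ∧ ∃ m : M, s • x = (1 : q.ResidueField) ⊗ₜ[R] m := by
  induction x using TensorProduct.induction_on with
  | zero => exact ⟨1, q.one_notMem, 0, by simp⟩
  | tmul c m =>
    obtain ⟨y, rfl⟩ := IsLocalRing.residue_surjective (R := Localization.AtPrime q) c
    obtain ⟨⟨r, s⟩, rfl⟩ := IsLocalization.mk'_surjective q.primeCompl y
    refine ⟨s, s.2, r • m, ?_⟩
    have h1 : algebraMap R q.ResidueField (s : R) *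
        IsLocalRing.residue (Localization.AtPrime q) (IsLocalization.mk' _ r s) =
        algebraMap R q.ResidueField r := by
      rw [IsScalarTower.algebraMap_apply R (Localization.AtPrime q) q.ResidueField,
        IsScalarTower.algebraMap_apply R (Localization.AtPrime q) q.ResidueField,
        IsLocalRing.ResidueField.algebraMap_eq, ← map_mul]
      congr 1
      rw [mul_comm]
      exact IsLocalization.mk'_spec _ r s
    rw [TensorProduct.smul_tmul', Algebra.smul_def, h1, TensorProduct.tmul_smul,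
      Algebra.algebraMap_eq_smul_one, TensorProduct.smul_tmul']
  | add x y hx hy =>
    obtain ⟨s, hs, m, hm⟩ := hx
    obtain ⟨s', hs', m', hm'⟩ := hy
    refine ⟨s * s', (fun h => (hqp.mem_or_mem h).elim hs hs'), s' • m + s • m', ?_⟩
    rw [smul_add, mul_comm s s', mul_smul, hm, mul_comm s' s, mul_smul, hm', tmul_add,
      TensorProduct.tmul_smul, TensorProduct.tmul_smul]

section Reg
variable (R : Type v) [CommRing R] (A : Type w) [Ring A] [Algebra R A] [IsAzumaya R A]
  (K : Type x) [Field K] [IsAlgClosed K]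

/-- a regular element at a geometric point of the base of an Azumaya algebra -/
theorem exists_regular_point (n : ℕ)
    (hrk : ∀ p : PrimeSpectrum R, Module.rankAtStalk A p = n ^ 2) (χ : R →+* K) :
    ∃ (Φ : A →+* Matrix (Fin n) (Fin n) K) (b : A) (μ : Fin n → K),
      (∀ (r : R) (a : A), Φ (r • a) = χ r • Φ a) ∧ Function.Injective μ ∧
        Φ b = Matrix.diagonal μ := by
  classical
  set q : Ideal R := RingHom.ker χ with hq
  haveI hqp : q.IsPrime := RingHom.ker_isPrime χ
  let k := q.ResidueField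
  let ι : k →+* K := Ideal.ResidueField.lift q χ le_rfl (by
    intro r hr
    have : χ r ≠ 0 := fun h => hr ((RingHom.mem_ker).mpr h)
    exact this.isUnit)
  letI : Algebra k K := ι.toAlgebra
  have hι : ∀ r : R, algebraMap k K (algebraMap R k r) = χ r := fun r =>
    Ideal.ResidueField.lift_algebraMap q χ le_rfl _ r
  haveI : IsAzumaya k (k ⊗[R] A) := Groth.Agent.Lib.Helper85.isAzumaya_baseChange R k A
  haveI : IsSimpleRing (k ⊗[R] A) := Groth.Agent.Lib.Helper85.isSimpleRing_of_isAzumaya k _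
  have hfin : Module.finrank k (k ⊗[R] A) = n ^ 2 := by
    rw [← hrk ⟨q, hqp⟩, Module.rankAtStalk_eq]
  obtain ⟨x, hsep, hdeg⟩ := RegularElt.exists_regular_separable k (k ⊗[R] A) n hfin
  haveI : IsAzumaya K (K ⊗[k] (k ⊗[R] A)) :=
    Groth.Agent.Lib.Helper85.isAzumaya_baseChange k K (k ⊗[R] A)
  haveI : IsSimpleRing (K ⊗[k] (k ⊗[R] A)) :=
    Groth.Agent.Lib.Helper85.isSimpleRing_of_isAzumaya K _
  obtain ⟨m, hm, ⟨φ⟩⟩ := IsSimpleRing.exists_algEquiv_matrix_of_isAlgClosed K (K ⊗[k] (k ⊗[R] A))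
  have hmn : m = n := by
    have h1 := φ.toLinearEquiv.finrank_eq
    rw [Module.finrank_baseChange, Module.finrank_matrix, hfin] at h1
    have h2 : n ^ 2 = m ^ 2 := by simpa [sq] using h1
    exact (Nat.pow_left_injective (by norm_num : 2 ≠ 0) h2).symm
  subst hmn
  -- clear denominators
  obtain ⟨s, hs, b, hb⟩ := exists_smul_eq_one_tmul_module q x
  set σ : k := algebraMap R k s with hσ
  have hσ0 : σ ≠ 0 := by
    rw [hσ, Ne, Ideal.algebraMap_residueField_eq_zero]
    exact hs
  have hx' : σ • x = (1 : k) ⊗ₜ[R] b := by rw [← hb, hσ, algebraMap_smul]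
  have hint : ∀ y : k ⊗[R] A, IsIntegral k y := fun y => IsIntegral.of_finite k y
  have h1 : (φ (1 ⊗ₜ[k] x)).charpoly.Separable :=
    (RegularElt.separable_charpoly_iff k φ x (hint x)).mpr ⟨hsep, hdeg⟩
  have h2 := (RegularElt.adjoin_props_iff k φ x (hint x)).mp h1
  rw [← AzSpread.adjoin_smul_eq σ hσ0 x] at h2
  have h3 : (φ (1 ⊗ₜ[k] (σ • x))).charpoly.Separable :=
    (RegularElt.adjoin_props_iff k φ (σ • x) (hint _)).mpr h2
  rw [hx'] at h3
  -- the semilinear map
  let Φ₀ : A →+* Matrix (Fin m) (Fin m) K :=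
    (φ : K ⊗[k] (k ⊗[R] A) →+* Matrix (Fin m) (Fin m) K).comp
      ((Algebra.TensorProduct.includeRight : (k ⊗[R] A) →ₐ[k] K ⊗[k] (k ⊗[R] A)).toRingHom.comp
        (Algebra.TensorProduct.includeRight : A →ₐ[R] k ⊗[R] A).toRingHom)
  have hΦ₀ : ∀ a, Φ₀ a = φ ((1 : K) ⊗ₜ[k] ((1 : k) ⊗ₜ[R] a)) := fun a => rfl
  have hsemi : ∀ (r : R) (a : A), Φ₀ (r • a) = χ r • Φ₀ a := by
    intro r a
    rw [hΦ₀, hΦ₀, TensorProduct.tmul_smul, ← algebraMap_smul k r ((1 : k) ⊗ₜ[R] a),
      TensorProduct.tmul_smul, ← algebraMap_smul K (algebraMap R k r), map_smul, hι]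
  obtain ⟨P, μ, hμ, hM⟩ := AzRegular.exists_diagonalization_injective (Φ₀ b) (by rw [hΦ₀]; exact h3)
  let Φ : A →+* Matrix (Fin m) (Fin m) K :=
    { toFun := fun a => ((P⁻¹ : (Matrix (Fin m) (Fin m) K)ˣ) : Matrix (Fin m) (Fin m) K) * Φ₀ a * P
      map_one' := by rw [map_one, mul_one, Units.inv_mul]
      map_mul' := fun a b => by
        rw [map_mul]
        calc ((P⁻¹ : (Matrix (Fin m) (Fin m) K)ˣ) : Matrix (Fin m) (Fin m) K) * (Φ₀ a * Φ₀ b) * P
            = ((P⁻¹ : (Matrix (Fin m) (Fin m) K)ˣ) : Matrix (Fin m) (Fin m) K) * Φ₀ a *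
              ((P : Matrix (Fin m) (Fin m) K) * ((P⁻¹ : (Matrix (Fin m) (Fin m) K)ˣ) :
                Matrix (Fin m) (Fin m) K)) * Φ₀ b * P := by
              rw [Units.mul_inv, mul_one]; simp only [mul_assoc]
          _ = _ := by simp only [mul_assoc]
      map_zero' := by rw [map_zero, mul_zero, zero_mul]
      map_add' := fun a b => by rw [map_add, mul_add, add_mul] }
  refine ⟨Φ, b, μ, ?_, hμ, ?_⟩
  · intro r a
    show _ * Φ₀ (r • a) * _ = χ r • (_ * Φ₀ a * _)
    rw [hsemi, mul_smul_comm, smul_mul_assoc]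
  · show _ * Φ₀ b * _ = _
    rw [hM]
    simp only [mul_assoc, Units.inv_mul, mul_one]
    rw [← mul_assoc, Units.inv_mul, one_mul]

end Reg

end Groth.Agent.Lib.Helper1.GeoNbhd
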