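import Mathlib
import Groth.Agent.Lib.Helper85.AzumayaBaseChange

set_option autoImplicit false
set_option linter.style.haveILetI false
set_option warn.classDefReducibility false
open TensorProduct

namespace Groth.Agent.Lib.Helper1.GeoNbhd

universe u v w x

attribute [local instance] Algebra.TensorProduct.rightAlgebra

section Tower
variable (S : Type u) [CommRing S] (R : Type v) [CommRing R] [Algebra S R]
  (A : Type w) [Ring A] [Algebra S A] [Algebra R A] [IsScalarTower S R A]
  (T : Type x) [CommRing T] [Algebra S T]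

/-- the map `T ⊗[S] R → T ⊗[S] A` -/
noncomputable def baseMap : T ⊗[S] R →ₐ[T] T ⊗[S] A :=
  Algebra.TensorProduct.map (AlgHom.id T T) (IsScalarTower.toAlgHom S R A)

@[simp] theorem baseMap_tmul (t : T) (r : R) :
    baseMap S R A T (t ⊗ₜ[S] r) = t ⊗ₜ[S] algebraMap R A r := by
  simp [baseMap]

theorem baseMap_commute (u : T ⊗[S] R) (y : T ⊗[S] A) : Commute (baseMap S R A T u) y := by
  induction u using TensorProduct.induction_on with
  | zero => simp
  | add a b ha hb => rw [map_add]; exact ha.add_left hb
  | tmul t r =>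
    induction y using TensorProduct.induction_on with
    | zero => simp
    | add a b ha hb => exact ha.add_right hb
    | tmul t' a =>
      rw [baseMap_tmul]
      show _ * _ = _ * _
      rw [Algebra.TensorProduct.tmul_mul_tmul, Algebra.TensorProduct.tmul_mul_tmul, mul_comm t t',
        (Algebra.commutes r a)]

/-- `T ⊗[S] A` as an algebra over `T ⊗[S] R` -/
@[reducible] noncomputable def algRT : Algebra (T ⊗[S] R) (T ⊗[S] A) :=
  (baseMap S R A T).toRingHom.toAlgebra' (fun u y => (baseMap_commute S R A T u y).eq)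

/-- the forward map of the tower isomorphism -/
noncomputable def towerFwd : T ⊗[S] A →ₐ[T] (T ⊗[S] R) ⊗[R] A :=
  Algebra.TensorProduct.lift (Algebra.ofId T _)
    ((Algebra.TensorProduct.includeRight : A →ₐ[R] (T ⊗[S] R) ⊗[R] A).restrictScalars S)
    (fun _ _ => Algebra.commute_algebraMap_left _ _)

@[simp] theorem towerFwd_tmul (t : T) (a : A) :
    towerFwd S R A T (t ⊗ₜ[S] a) = (t ⊗ₜ[S] (1 : R)) ⊗ₜ[R] a := by
  simp [towerFwd, Algebra.ofId_apply, Algebra.TensorProduct.algebraMap_apply]

theorem smul_tmul_right (r : R) (t : T) (r' : R) :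
    r • (t ⊗ₜ[S] r' : T ⊗[S] R) = t ⊗ₜ[S] (r * r') := by
  rw [Algebra.smul_def]
  show ((1 : T) ⊗ₜ[S] r) * _ = _
  rw [Algebra.TensorProduct.tmul_mul_tmul, one_mul]

theorem baseMap_smul (r : R) (u : T ⊗[S] R) :
    baseMap S R A T (r • u) = ((1 : T) ⊗ₜ[S] algebraMap R A r) * baseMap S R A T u := by
  rw [Algebra.smul_def, map_mul]
  congr 1

/-- the backward map of the tower isomorphism, as an additive map -/
noncomputable def towerBwd : (T ⊗[S] R) ⊗[R] A →+ T ⊗[S] A :=
  TensorProduct.liftAddHom
    { toFun := fun u =>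
        { toFun := fun a => baseMap S R A T u * ((1 : T) ⊗ₜ[S] a)
          map_zero' := by simp
          map_add' := fun a b => by rw [tmul_add, mul_add] }
      map_zero' := by ext a; simp
      map_add' := fun u v => by ext a; simp [add_mul] }
    (fun r u a => by
      show baseMap S R A T (r • u) * ((1 : T) ⊗ₜ[S] a) = baseMap S R A T u * ((1 : T) ⊗ₜ[S] (r • a))
      rw [baseMap_smul, (baseMap_commute S R A T u _).eq.symm, mul_assoc,
        Algebra.TensorProduct.tmul_mul_tmul, one_mul, ← Algebra.smul_def])

@[simp] theorem towerBwd_tmul (u : T ⊗[S] R) (a : A) :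
    towerBwd S R A T (u ⊗ₜ[R] a) = baseMap S R A T u * ((1 : T) ⊗ₜ[S] a) := rfl

theorem towerBwd_towerFwd (x : T ⊗[S] A) : towerBwd S R A T (towerFwd S R A T x) = x := by
  induction x using TensorProduct.induction_on with
  | zero => simp
  | add a b ha hb => rw [map_add, map_add, ha, hb]
  | tmul t a =>
    rw [towerFwd_tmul, towerBwd_tmul, baseMap_tmul, map_one, Algebra.TensorProduct.tmul_mul_tmul,
      mul_one, one_mul]

theorem towerFwd_towerBwd (y : (T ⊗[S] R) ⊗[R] A) : towerFwd S R A T (towerBwd S R A T y) = y := by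
  induction y using TensorProduct.induction_on with
  | zero => simp
  | add a b ha hb => rw [map_add, map_add, ha, hb]
  | tmul u a =>
    induction u using TensorProduct.induction_on with
    | zero => simp
    | add u v hu hv => rw [add_tmul, map_add, map_add, hu, hv]
    | tmul t r =>
      rw [towerBwd_tmul, baseMap_tmul, Algebra.TensorProduct.tmul_mul_tmul, mul_one,
        towerFwd_tmul, ← Algebra.smul_def, ← TensorProduct.smul_tmul, smul_tmul_right, mul_one]

theorem towerFwd_baseMap_mul (u : T ⊗[S] R) (y : T ⊗[S] A) :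
    towerFwd S R A T (baseMap S R A T u * y) = u • towerFwd S R A T y := by
  have h : ∀ u, towerFwd S R A T (baseMap S R A T u) = u ⊗ₜ[R] (1 : A) := by
    intro u
    induction u using TensorProduct.induction_on with
    | zero => simp
    | add u v hu hv => rw [map_add, map_add, hu, hv, add_tmul]
    | tmul t r =>
      rw [baseMap_tmul, towerFwd_tmul, Algebra.algebraMap_eq_smul_one, ← TensorProduct.smul_tmul,
        smul_tmul_right, mul_one]
  rw [map_mul, h]
  generalize towerFwd S R A T y = z
  induction z using TensorProduct.induction_on with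
  | zero => simp
  | add a b ha hb => rw [mul_add, smul_add, ha, hb]
  | tmul v a =>
    rw [Algebra.TensorProduct.tmul_mul_tmul, one_mul, TensorProduct.smul_tmul', smul_eq_mul]

section
attribute [local instance] algRT

theorem algebraMap_RT_apply (u : T ⊗[S] R) :
    algebraMap (T ⊗[S] R) (T ⊗[S] A) u = baseMap S R A T u := rfl

theorem smul_RT_def (u : T ⊗[S] R) (y : T ⊗[S] A) : u • y = baseMap S R A T u * y := rfl

/-- the tower isomorphism -/
noncomputable def towerEquiv : (T ⊗[S] R) ⊗[R] A ≃ₐ[T ⊗[S] R] T ⊗[S] A :=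
  AlgEquiv.symm
    { toFun := towerFwd S R A T
      invFun := towerBwd S R A T
      left_inv := towerBwd_towerFwd S R A T
      right_inv := towerFwd_towerBwd S R A T
      map_mul' := map_mul _
      map_add' := map_add _
      commutes' := fun u => by
        rw [algebraMap_RT_apply, ← mul_one (baseMap S R A T u), towerFwd_baseMap_mul, map_one,
          Algebra.algebraMap_eq_smul_one] }

theorem towerEquiv_symm_apply (y : T ⊗[S] A) :
    (towerEquiv S R A T).symm y = towerFwd S R A T y := rfl

theorem isAzumaya_tower [IsAzumaya R A] : IsAzumaya (T ⊗[S] R) (T ⊗[S] A) :=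
  haveI := Groth.Agent.Lib.Helper85.isAzumaya_baseChange R (T ⊗[S] R) A
  IsAzumaya.of_AlgEquiv (e := towerEquiv S R A T)

theorem rankAtStalk_tower [Module.Finite R A] [Module.Projective R A] (d : ℕ)
    (hrk : ∀ p : PrimeSpectrum R, Module.rankAtStalk A p = d) (p : PrimeSpectrum (T ⊗[S] R)) :
    Module.rankAtStalk (T ⊗[S] A) p = d := by
  rw [← Module.rankAtStalk_eq_of_equiv (towerEquiv S R A T).toLinearEquiv,
    Module.rankAtStalk_baseChange, hrk]

end

end Tower

end Groth.Agent.Lib.Helper1.GeoNbhd
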