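import Mathlib
import Groth.Agent.Lib.Helper1.GeoNbhd.GeoLift
import Groth.Agent.Lib.Helper1.GeoNbhd.GeoTools
import Groth.Agent.Lib.Helper1.GeoNbhd.Tower
import Groth.Agent.Lib.Helper1.GeoNbhd.Points
import Groth.Agent.Lib.Helper1.GeoNbhd.RegPoint

set_option autoImplicit false
set_option linter.style.haveILetI false
open TensorProduct

namespace Groth.Agent.Lib.Helper1.GeoNbhd

universe u v w x

/-- combining two idempotents along a central idempotent -/
theorem isIdempotentElem_combine {X : Type*} [Ring X] (c e₁ e₂ : X) (hc : IsIdempotentElem c)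
    (hcomm : ∀ y, Commute c y) (h₁ : IsIdempotentElem e₁) (h₂ : IsIdempotentElem e₂) :
    IsIdempotentElem (c * e₁ + (1 - c) * e₂) := by
  have hc' : IsIdempotentElem (1 - c) := hc.one_sub
  have h0 : c * (1 - c) = 0 := by rw [mul_sub, mul_one, hc.eq, sub_self]
  have h0' : (1 - c) * c = 0 := by rw [sub_mul, one_mul, hc.eq, sub_self]
  have hcomm' : ∀ y, Commute (1 - c) y := fun y => (Commute.one_left y).sub_left (hcomm y)
  unfold IsIdempotentElem
  have e1 : c * e₁ * (c * e₁) = c * e₁ := by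
    rw [mul_assoc, ← mul_assoc e₁, ← (hcomm e₁).eq, mul_assoc, h₁.eq, ← mul_assoc, hc.eq]
  have e2 : c * e₁ * ((1 - c) * e₂) = 0 := by
    rw [mul_assoc, ← mul_assoc e₁, ← (hcomm' e₁).eq, mul_assoc, ← mul_assoc, h0, zero_mul]
  have e3 : (1 - c) * e₂ * (c * e₁) = 0 := by
    rw [mul_assoc, ← mul_assoc e₂, ← (hcomm e₂).eq, mul_assoc, ← mul_assoc, h0', zero_mul]
  have e4 : (1 - c) * e₂ * ((1 - c) * e₂) = (1 - c) * e₂ := by
    rw [mul_assoc, ← mul_assoc e₂, ← (hcomm' e₂).eq, mul_assoc, h₂.eq, ← mul_assoc, hc'.eq]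
  rw [mul_add, add_mul, add_mul, e1, e2, e3, e4, add_zero, zero_add]

section Setup
variable {S : Type u} [CommRing S] {R : Type v} [CommRing R] [Algebra S R]
  {A : Type w} [Ring A] [Algebra S A] [Algebra R A] [IsScalarTower S R A]
  {K : Type x} [Field K] [Algebra S K] {n : ℕ}

/-- semilinearity of the evaluation maps -/
theorem geoEval_baseMap {T : Type*} [CommRing T] [Algebra S T] (ψ : T →ₐ[S] K) (χ : R →ₐ[S] K)
    (φ : A →ₐ[S] Matrix (Fin n) (Fin n) K) (hφ : ∀ (r : R) (a : A), φ (r • a) = χ r • φ a)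
    (u : T ⊗[S] R) :
    geoEval ψ φ (baseMap S R A T u) =
      algebraMap K (Matrix (Fin n) (Fin n) K) (geoEval ψ χ u) := by
  induction u using TensorProduct.induction_on with
  | zero => simp
  | add a b ha hb => rw [map_add, map_add, map_add, map_add, ha, hb]
  | tmul t r =>
    rw [baseMap_tmul, geoEval_tmul, geoEval_tmul, Algebra.algebraMap_eq_smul_one r, hφ, map_one,
      map_mul, Algebra.algebraMap_self, RingHom.id_apply, ← Algebra.algebraMap_eq_smul_one]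

end Setup

section Pt
variable (S : Type u) [CommRing S] (R : Type v) [CommRing R] [Algebra S R]
  (A : Type w) [Ring A] [Algebra S A] [Algebra R A] [IsScalarTower S R A] [IsAzumaya R A]
  [Algebra.IsIntegral S R]
  (K : Type x) [Field K] [IsAlgClosed K] [Algebra S K]

/-- a rank one idempotent at one geometric point -/
theorem exists_point_idempotent (n : ℕ) (hn : 0 < n)
    (hrk : ∀ p : PrimeSpectrum R, Module.rankAtStalk A p = n ^ 2) (χ : R →ₐ[S] K) :
    ∃ (T : Type u) (_ : CommRing T) (_ : Algebra S T) (_ : Algebra.Etale S T) (ψ : T →ₐ[S] K)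
      (e : T ⊗[S] A) (φ : A →ₐ[S] Matrix (Fin n) (Fin n) K), IsIdempotentElem e ∧
        (∀ (r : R) (a : A), φ (r • a) = χ r • φ a) ∧
        geoEval ψ φ e = Matrix.single (⟨0, hn⟩ : Fin n) ⟨0, hn⟩ (1 : K) := by
  obtain ⟨Φ, b, μ, hsemi, hμ, hb⟩ := exists_regular_point R A K n hrk χ.toRingHom
  let φ : A →ₐ[S] Matrix (Fin n) (Fin n) K :=
    { Φ with
      commutes' := fun s => by
        show Φ (algebraMap S A s) = _
        rw [IsScalarTower.algebraMap_apply S R A, Algebra.algebraMap_eq_smul_one, hsemi, map_one]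
        show χ (algebraMap S R s) • (1 : Matrix (Fin n) (Fin n) K) = _
        rw [AlgHom.commutes, Algebra.algebraMap_eq_smul_one, smul_assoc, one_smul,
          Algebra.algebraMap_eq_smul_one] }
  have hφ : ∀ a, φ a = Φ a := fun _ => rfl
  have hint : IsIntegral S b := isIntegral_trans (R := S) (A := R) b (IsIntegral.of_finite R b)
  obtain ⟨T, i1, i2, i3, ψ, e, he, hev⟩ :=
    exists_etale_idempotent S A K φ b hint μ hμ (by rw [hφ, hb]) ⟨0, hn⟩
  exact ⟨T, i1, i2, i3, ψ, e, φ, he, fun r a => hsemi r a, hev⟩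

/-- a rank one idempotent at all geometric points over a geometric point of the fixed ring -/
theorem exists_nbhd_idempotent (lam : R ≃ₐ[S] R) (hlam : ∀ r, lam (lam r) = r)
    (hfix : ∀ r, lam r = r → r ∈ Set.range (algebraMap S R)) (n : ℕ) (hn : 0 < n)
    (hrk : ∀ p : PrimeSpectrum R, Module.rankAtStalk A p = n ^ 2) (χ₁ : R →ₐ[S] K) :
    ∃ (T : Type u) (_ : CommRing T) (_ : Algebra S T) (_ : Algebra.Etale S T) (ψ : T →ₐ[S] K)
      (e : T ⊗[S] A), IsIdempotentElem e ∧ ∀ χ : R →ₐ[S] K,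
        ∃ φ : A →ₐ[S] Matrix (Fin n) (Fin n) K, (∀ (r : R) (a : A), φ (r • a) = χ r • φ a) ∧
          geoEval ψ φ e = Matrix.single (⟨0, hn⟩ : Fin n) ⟨0, hn⟩ (1 : K) := by
  classical
  set χ₂ : R →ₐ[S] K := χ₁.comp (lam : R →ₐ[S] R) with hχ₂
  have hall : ∀ χ : R →ₐ[S] K, χ = χ₁ ∨ χ = χ₂ := eq_or_eq_comp_of_fixed lam hlam hfix χ₁
  obtain ⟨T₁, i1, i2, i3, ψ₁, e₁, φ₁, he₁, hφ₁, hev₁⟩ :=
    exists_point_idempotent S R A K n hn hrk χ₁
  by_cases h12 : χ₁ = χ₂
  · refine ⟨T₁, i1, i2, i3, ψ₁, e₁, he₁, fun χ => ⟨φ₁, ?_, hev₁⟩⟩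
    have hχ : χ = χ₁ := by
      rcases hall χ with h | h
      · exact h
      · rw [h, ← h12]
    rw [hχ]
    exact hφ₁
  · obtain ⟨T₂, j1, j2, j3, ψ₂, e₂, φ₂, he₂, hφ₂, hev₂⟩ :=
      exists_point_idempotent S R A K n hn hrk χ₂
    have : ∃ r, χ₁ r ≠ χ₂ r := by
      by_contra h
      push Not at h
      exact h12 (AlgHom.ext h)
    obtain ⟨r, hr⟩ := this
    obtain ⟨T₃, k1, k2, k3, ψ₃, c, hc, hc1, hc2⟩ :=
      exists_etale_sep S R K χ₁ χ₂ r (Algebra.IsIntegral.isIntegral r) hr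
    let T := (T₁ ⊗[S] T₂) ⊗[S] T₃
    let ψ : T →ₐ[S] K := prodPt (prodPt ψ₁ ψ₂) ψ₃
    let f₁ : T₁ →ₐ[S] T := (Algebra.TensorProduct.includeLeft : T₁ ⊗[S] T₂ →ₐ[S] T).comp
      Algebra.TensorProduct.includeLeft
    let f₂ : T₂ →ₐ[S] T := (Algebra.TensorProduct.includeLeft : T₁ ⊗[S] T₂ →ₐ[S] T).comp
      Algebra.TensorProduct.includeRight
    let f₃ : T₃ →ₐ[S] T := Algebra.TensorProduct.includeRight
    have hf₁ : ψ.comp f₁ = ψ₁ := by
      rw [← AlgHom.comp_assoc, prodPt_comp_left, prodPt_comp_left]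
    have hf₂ : ψ.comp f₂ = ψ₂ := by
      rw [← AlgHom.comp_assoc, prodPt_comp_left, prodPt_comp_right]
    have hf₃ : ψ.comp f₃ = ψ₃ := prodPt_comp_right _ _
    let e₁' : T ⊗[S] A := Algebra.TensorProduct.map f₁ (AlgHom.id S A) e₁
    let e₂' : T ⊗[S] A := Algebra.TensorProduct.map f₂ (AlgHom.id S A) e₂
    let c' : T ⊗[S] R := Algebra.TensorProduct.map f₃ (AlgHom.id S R) c
    let cA : T ⊗[S] A := baseMap S R A T c'
    have hcA : IsIdempotentElem cA := (isIdempotentElem_map f₃ hc).map _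
    have he₁' : IsIdempotentElem e₁' := isIdempotentElem_map f₁ he₁
    have he₂' : IsIdempotentElem e₂' := isIdempotentElem_map f₂ he₂
    have hval₁ : ∀ φ : A →ₐ[S] Matrix (Fin n) (Fin n) K, geoEval ψ φ e₁' = geoEval ψ₁ φ e₁ :=
      fun φ => by rw [geoEval_map, hf₁]
    have hval₂ : ∀ φ : A →ₐ[S] Matrix (Fin n) (Fin n) K, geoEval ψ φ e₂' = geoEval ψ₂ φ e₂ :=
      fun φ => by rw [geoEval_map, hf₂]
    have hvalc : ∀ χ : R →ₐ[S] K, geoEval ψ χ c' = geoEval ψ₃ χ c :=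
      fun χ => by rw [geoEval_map, hf₃]
    refine ⟨T, inferInstance, inferInstance, inferInstance, ψ, cA * e₁' + (1 - cA) * e₂',
      isIdempotentElem_combine cA e₁' e₂' hcA (baseMap_commute S R A T c') he₁' he₂', fun χ => ?_⟩
    rcases hall χ with h | h
    · refine ⟨φ₁, by rw [h]; exact hφ₁, ?_⟩
      rw [map_add, map_mul, map_mul, map_sub, map_one, geoEval_baseMap ψ χ₁ φ₁ hφ₁, hvalc, hc1,
        map_one, sub_self, zero_mul, add_zero, one_mul, hval₁, hev₁]
    · refine ⟨φ₂, by rw [h]; exact hφ₂, ?_⟩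
      rw [map_add, map_mul, map_mul, map_sub, map_one, geoEval_baseMap ψ χ₂ φ₂ hφ₂, hvalc, hc2,
        map_zero, sub_zero, zero_mul, zero_add, one_mul, hval₂, hev₂]

end Pt

end Groth.Agent.Lib.Helper1.GeoNbhd
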