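import Mathlib
import Groth.Agent.Lib.Helper85.AzumayaBaseChange
import Groth.Agent.Lib.Helper85.CSAField
import Groth.Agent.Lib.Helper1.CSA.AzCorner

set_option autoImplicit false
set_option linter.style.haveILetI false
open TensorProduct

namespace Groth.Agent.Lib.Helper1.GeoNbhd

universe u v w

open Groth.Agent.Lib.Helper1.AzCorner

section Mat
variable {K : Type w} [Field K] {n : ℕ}

theorem eq_zero_of_mul_single_of_col (i0 : Fin n) (N : Matrix (Fin n) (Fin n) K)
    (h1 : N * Matrix.single i0 i0 (1 : K) = N) (h2 : ∀ i, N i i0 = 0) : N = 0 := by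
  rw [← h1]
  ext i l
  rw [Matrix.mul_apply]
  simp only [Matrix.zero_apply]
  apply Finset.sum_eq_zero
  intro j _
  by_cases hj : j = i0
  · subst hj; rw [h2, zero_mul]
  · rw [Matrix.single_apply_of_row_ne (Ne.symm hj), mul_zero]

theorem mul_single_col (i0 : Fin n) (v : Fin n → K) :
    (Matrix.of fun i l => if l = i0 then v i else 0 : Matrix (Fin n) (Fin n) K) *
      Matrix.single i0 i0 (1 : K) = Matrix.of fun i l => if l = i0 then v i else 0 := by
  ext i l
  rw [Matrix.mul_apply]
  simp only [Matrix.of_apply]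
  rw [Finset.sum_eq_single i0]
  · by_cases hl : l = i0
    · subst hl; simp
    · simp [hl, Matrix.single_apply_of_col_ne _ _ (Ne.symm hl)]
  · intro j _ hj
    simp [hj]
  · simp

end Mat

theorem finrank_baseChange_field (B : Type u) [CommRing B] (K : Type w) [Field K] [Algebra B K]
    (M : Type v) [AddCommGroup M] [Module B M] [Module.Finite B M] [Module.Flat B M] :
    Module.finrank K (K ⊗[B] M) =
      Module.rankAtStalk M (PrimeSpectrum.comap (algebraMap B K) ⟨⊥, Ideal.isPrime_bot⟩) := by
  rw [← Module.rankAtStalk_baseChange (R := B) (M := M) (S := K) ⟨⊥, Ideal.isPrime_bot⟩]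
  have := congrFun (Module.rankAtStalk_eq_finrank_of_free (R := K) (M := K ⊗[B] M))
    ⟨⊥, Ideal.isPrime_bot⟩
  simp

section Rank
variable (B : Type u) [CommRing B] (A' : Type v) [Ring A'] [Algebra B A'] [IsAzumaya B A']
  (K : Type w) [Field K]

/-- the rank of the left ideal generated by an idempotent which becomes a rank one idempotent at a
geometric point -/
theorem rankAtStalk_Lid_of_eval (n : ℕ)
    (hrk : ∀ p : PrimeSpectrum B, Module.rankAtStalk A' p = n ^ 2)
    (e : A') (he : IsIdempotentElem e) (ρ : B →+* K)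
    (EV : A' →+* Matrix (Fin n) (Fin n) K) (hEV : ∀ (u : B) (y : A'), EV (u • y) = ρ u • EV y)
    (i0 : Fin n) (hEVe : EV e = Matrix.single i0 i0 (1 : K)) :
    Module.rankAtStalk (Lid B e) ⟨RingHom.ker ρ, RingHom.ker_isPrime ρ⟩ = n := by
  classical
  letI : Algebra B K := ρ.toAlgebra
  haveI hproj : Module.Projective B (Lid B e) := projective_Lid he
  have hbot : (⟨RingHom.ker ρ, RingHom.ker_isPrime ρ⟩ : PrimeSpectrum B) =
      PrimeSpectrum.comap (algebraMap B K) ⟨⊥, Ideal.isPrime_bot⟩ := by
    ext1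
    exact (RingHom.ker_eq_comap_bot ρ)
  -- the algebra map from the fibre
  let EVa : A' →ₐ[B] Matrix (Fin n) (Fin n) K :=
    { EV with
      commutes' := fun u => by
        show EV (algebraMap B A' u) = _
        rw [Algebra.algebraMap_eq_smul_one, hEV, map_one, Algebra.algebraMap_eq_smul_one]
        rfl }
  have hEVa : ∀ y, EVa y = EV y := fun _ => rfl
  let Ψ : K ⊗[B] A' →ₐ[K] Matrix (Fin n) (Fin n) K :=
    Algebra.TensorProduct.lift (Algebra.ofId K _) EVa (fun _ _ => Algebra.commute_algebraMap_left _ _)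
  have hΨ : ∀ (c : K) (y : A'), Ψ (c ⊗ₜ[B] y) = c • EV y := by
    intro c y
    simp [Ψ, Algebra.ofId_apply, Algebra.algebraMap_eq_smul_one, hEVa]
  haveI : IsAzumaya K (K ⊗[B] A') := Groth.Agent.Lib.Helper85.isAzumaya_baseChange B K A'
  haveI : IsSimpleRing (K ⊗[B] A') := Groth.Agent.Lib.Helper85.isSimpleRing_of_isAzumaya K _
  haveI : Nonempty (Fin n) := ⟨i0⟩
  have hΨinj : Function.Injective Ψ := RingHom.injective Ψ.toRingHom
  have hfinA : Module.finrank K (K ⊗[B] A') = n ^ 2 := by
    rw [finrank_baseChange_field, hrk]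
  have hΨbij : Function.Bijective Ψ := by
    refine ⟨hΨinj, ?_⟩
    have hfr : Module.finrank K (K ⊗[B] A') = Module.finrank K (Matrix (Fin n) (Fin n) K) := by
      rw [hfinA, Module.finrank_matrix]; simp [sq]
    exact (LinearMap.injective_iff_surjective_of_finrank_eq_finrank (f := Ψ.toLinearMap) hfr).mp
      hΨinj
  -- the maps j and π
  let j : K ⊗[B] Lid B e →ₗ[K] K ⊗[B] A' := (Lid B e).subtype.baseChange K
  let π : K ⊗[B] A' →ₗ[K] K ⊗[B] Lid B e := (πL B e).baseChange K
  have hπj : ∀ z, π (j z) = z := by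
    intro z
    induction z using TensorProduct.induction_on with
    | zero => simp
    | add a b ha hb => rw [map_add, map_add, ha, hb]
    | tmul c y =>
      simp only [j, π, LinearMap.baseChange_tmul, Submodule.subtype_apply]
      rw [πL_of_mem he]
  have hjπ : ∀ w, j (π w) = w * ((1 : K) ⊗ₜ[B] e) := by
    intro w
    induction w using TensorProduct.induction_on with
    | zero => simp
    | add a b ha hb => rw [map_add, map_add, ha, hb, add_mul]
    | tmul c y =>
      simp only [j, π, LinearMap.baseChange_tmul, Submodule.subtype_apply]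
      rw [Algebra.TensorProduct.tmul_mul_tmul, mul_one, πL_val]
  have hje : ∀ z, j z * ((1 : K) ⊗ₜ[B] e) = j z := by
    intro z
    rw [← hjπ, hπj]
  have hΨe : Ψ ((1 : K) ⊗ₜ[B] e) = Matrix.single i0 i0 (1 : K) := by
    rw [hΨ, one_smul, hEVe]
  let col : Matrix (Fin n) (Fin n) K →ₗ[K] (Fin n → K) :=
    { toFun := fun N i => N i i0
      map_add' := fun _ _ => rfl
      map_smul' := fun _ _ => rfl }
  let α : K ⊗[B] Lid B e →ₗ[K] (Fin n → K) := col ∘ₗ Ψ.toLinearMap ∘ₗ j
  have hαinj : Function.Injective α := by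
    rw [← LinearMap.ker_eq_bot, LinearMap.ker_eq_bot']
    intro z hz
    have h1 : Ψ (j z) = 0 := by
      apply eq_zero_of_mul_single_of_col i0
      · rw [← hΨe, ← map_mul, hje]
      · intro i
        exact congrFun hz i
    have h2 : j z = 0 := hΨinj (by rw [h1, map_zero])
    rw [← hπj z, h2, map_zero]
  have hαsurj : Function.Surjective α := by
    intro v
    obtain ⟨w, hw⟩ := hΨbij.2 (Matrix.of fun i l => if l = i0 then v i else 0)
    refine ⟨π w, ?_⟩
    funext i
    show Ψ (j (π w)) i i0 = v i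
    rw [hjπ, map_mul, hw, hΨe, mul_single_col]
    simp
  have hfr : Module.finrank K (K ⊗[B] Lid B e) = n := by
    rw [(LinearEquiv.ofBijective α ⟨hαinj, hαsurj⟩).finrank_eq, Module.finrank_fin_fun]
  rw [hbot, ← finrank_baseChange_field, hfr]

end Rank

end Groth.Agent.Lib.Helper1.GeoNbhd
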