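import Mathlib
import Groth.Agent.Lib.Helper1.CSA.AzCorner
import Groth.Agent.Lib.Helper1.GeoNbhd.RankLid

set_option autoImplicit false
set_option linter.style.haveILetI false
open TensorProduct

namespace Groth.Agent.Lib.Helper1.GeoNbhd

universe u v w

open Groth.Agent.Lib.Helper1.AzCorner

theorem finrank_quotient_tensor (R' : Type u) [CommRing R'] (M' : Type v) [AddCommGroup M']
    [Module R' M'] [Module.Finite R' M'] [Module.Flat R' M'] (P : MaximalSpectrum R') :
    Module.finrank (R' ⧸ P.asIdeal) ((R' ⧸ P.asIdeal) ⊗[R'] M') =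
      Module.rankAtStalk M' P.toPrimeSpectrum := by
  haveI := P.isMaximal
  letI : Field (R' ⧸ P.asIdeal) := Ideal.Quotient.field _
  rw [finrank_baseChange_field]
  congr 1
  ext1
  show Ideal.comap (algebraMap R' (R' ⧸ P.asIdeal)) ⊥ = P.asIdeal
  rw [← RingHom.ker_eq_comap_bot]
  exact Ideal.mk_ker

section SS
variable (B : Type u) [CommRing B] (M : Submonoid B) (BM : Type v) [CommRing BM] [Algebra B BM]
  [IsLocalization M BM] [Finite (MaximalSpectrum BM)]

/-- a finite projective module which has constant rank `n` at the maximal ideals of a semilocal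
localization is free of rank `n` on a principal open neighbourhood -/
theorem exists_away_basis (Q : Type w) [AddCommGroup Q] [Module B Q] [Module.Finite B Q]
    [Module.Projective B Q] (n : ℕ)
    (hrk : ∀ 𝔪 : MaximalSpectrum BM, Module.rankAtStalk Q
      (PrimeSpectrum.comap (algebraMap B BM) 𝔪.toPrimeSpectrum) = n) :
    ∃ g ∈ M, Nonempty (Module.Basis (Fin n) (Localization.Away g) (Localization.Away g ⊗[B] Q)) := by
  have rk : ∀ P : MaximalSpectrum BM,
      Module.finrank (BM ⧸ P.1) ((BM ⧸ P.1) ⊗[BM] (BM ⊗[B] Q)) = n := fun P => by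
    rw [finrank_quotient_tensor, Module.rankAtStalk_baseChange, hrk]
  obtain ⟨bM⟩ := Module.nonempty_basis_of_flat_of_finrank_eq BM (BM ⊗[B] Q) n rk
  let f : Q →ₗ[B] BM ⊗[B] Q := TensorProduct.mk B BM Q 1
  haveI : IsLocalizedModule M f :=
    (isLocalizedModule_iff_isBaseChange M BM f).mpr (TensorProduct.isBaseChange B Q BM)
  haveI : Module.FinitePresentation B Q := Module.finitePresentation_of_projective B Q
  obtain ⟨g, hg, b', -⟩ :=
    Module.FinitePresentation.exists_basis_localizedModule_powers M f BM bM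
  exact ⟨g, hg, ⟨b'.map (LocalizedModule.equivTensorProduct (.powers g) Q)⟩⟩

/-- splitting on a principal open neighbourhood of a semilocal localization -/
theorem exists_away_split (A' : Type w) [Ring A'] [Algebra B A'] [Module.Finite B A']
    [Module.Projective B A'] (e : A') (he : IsIdempotentElem e) (n : ℕ)
    (hrk : ∀ 𝔪 : MaximalSpectrum BM, Module.rankAtStalk (Lid B e)
      (PrimeSpectrum.comap (algebraMap B BM) 𝔪.toPrimeSpectrum) = n) :
    ∃ g ∈ M, Nonempty (A' →ₐ[B] Matrix (Fin n) (Fin n) (Localization.Away g)) := by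
  classical
  haveI : Module.Projective B (Lid B e) := projective_Lid he
  obtain ⟨g, hg, ⟨b⟩⟩ := exists_away_basis B M BM (Lid B e) n hrk
  refine ⟨g, hg, ⟨?_⟩⟩
  exact (((algEquivMatrix b).restrictScalars B).toAlgHom.comp
    (Module.End.baseChangeHom B (Localization.Away g) (Lid B e))).comp (lA B e)

end SS

end Groth.Agent.Lib.Helper1.GeoNbhd
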