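import Mathlib
import Groth.Agent.Lib.Helper1.GeoNbhd.NbhdIdem
import Groth.Agent.Lib.Helper1.GeoNbhd.MaxIdeals
import Groth.Agent.Lib.Helper1.GeoNbhd.SemilocalFree

set_option autoImplicit false
set_option linter.style.haveILetI false
open TensorProduct

namespace Groth.Agent.Lib.Helper1.GeoNbhd

universe u v w x

section Split
variable (S : Type u) [CommRing S] (R : Type v) [CommRing R] [Algebra S R]
  (A : Type w) [Ring A] [Algebra S A] [Algebra R A] [IsScalarTower S R A] [IsAzumaya R A]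
  [Algebra.IsIntegral S R]
  (K : Type x) [Field K] [IsAlgClosed K] [Algebra S K]

attribute [local instance] algRT

/-- from a rank one idempotent at all geometric points to a splitting on a principal open
neighbourhood -/
theorem exists_split_of_idempotent (n : ℕ) (hn : 0 < n)
    (hrk : ∀ p : PrimeSpectrum R, Module.rankAtStalk A p = n ^ 2)
    (hfin : Finite (R →ₐ[S] K))
    (T : Type u) [CommRing T] [Algebra S T] (ψ : T →ₐ[S] K) (e : T ⊗[S] A)
    (he : IsIdempotentElem e)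
    (hpt : ∀ χ : R →ₐ[S] K, ∃ φ : A →ₐ[S] Matrix (Fin n) (Fin n) K,
      (∀ (r : R) (a : A), φ (r • a) = χ r • φ a) ∧
        geoEval ψ φ e = Matrix.single (⟨0, hn⟩ : Fin n) ⟨0, hn⟩ (1 : K)) :
    ∃ g₀ : T, ψ g₀ ≠ 0 ∧ ∃ ϑ : A →+* Matrix (Fin n) (Fin n) (Localization.Away g₀ ⊗[S] R),
      ∀ r : R, ϑ (algebraMap R A r) =
        Matrix.scalar (Fin n) ((1 : Localization.Away g₀) ⊗ₜ[S] r) := by
  classical
  haveI hAz : IsAzumaya (T ⊗[S] R) (T ⊗[S] A) := isAzumaya_tower S R A T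
  have hrkT : ∀ p : PrimeSpectrum (T ⊗[S] R), Module.rankAtStalk (T ⊗[S] A) p = n ^ 2 :=
    rankAtStalk_tower S R A T (n ^ 2) hrk
  let L := LocPt ψ
  let ι : T ⊗[S] R →ₐ[S] L ⊗[S] R :=
    Algebra.TensorProduct.map (IsScalarTower.toAlgHom S T L) (AlgHom.id S R)
  letI : Algebra (T ⊗[S] R) (L ⊗[S] R) := ι.toRingHom.toAlgebra
  haveI : IsScalarTower T (T ⊗[S] R) (L ⊗[S] R) := IsScalarTower.of_algebraMap_eq (fun t => by
    show _ = ι (algebraMap T (T ⊗[S] R) t)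
    rw [Algebra.TensorProduct.algebraMap_apply, Algebra.TensorProduct.algebraMap_apply]
    simp [ι])
  haveI hloc : IsLocalization (Algebra.algebraMapSubmonoid (T ⊗[S] R) (kerPt ψ).primeCompl)
      (L ⊗[S] R) :=
    IsLocalization.tensorProduct_tensorProduct S R (kerPt ψ).primeCompl L (by
      ext r
      show ι ((1 : T) ⊗ₜ[S] r) = (1 : L) ⊗ₜ[S] r
      simp [ι])
  have hιz : ∀ (χ : R →ₐ[S] K) (z : T ⊗[S] R),
      geoEval (locPt ψ) χ (algebraMap (T ⊗[S] R) (L ⊗[S] R) z) = geoEval ψ χ z := by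
    intro χ z
    show geoEval (locPt ψ) χ (ι z) = _
    rw [geoEval_map, locPt_comp]
  -- the maximal ideals
  have hex : ∀ 𝔪 : MaximalSpectrum (L ⊗[S] R), ∃ χ : R →ₐ[S] K,
      𝔪.asIdeal = RingHom.ker (geoEval (locPt ψ) χ).toRingHom := fun 𝔪 =>
    haveI := 𝔪.isMaximal
    exists_point_of_isMaximal (locPt ψ) (ker_locPt ψ) 𝔪.asIdeal
  choose χof hχof using hex
  haveI : Finite (MaximalSpectrum (L ⊗[S] R)) := by
    refine Finite.of_injective χof ?_
    intro 𝔪 𝔪' h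
    apply MaximalSpectrum.ext
    rw [hχof 𝔪, hχof 𝔪', h]
  have hrank : ∀ 𝔪 : MaximalSpectrum (L ⊗[S] R),
      Module.rankAtStalk (AzCorner.Lid (T ⊗[S] R) e)
        (PrimeSpectrum.comap (algebraMap (T ⊗[S] R) (L ⊗[S] R)) 𝔪.toPrimeSpectrum) = n := by
    intro 𝔪
    obtain ⟨φ, hφ, hev⟩ := hpt (χof 𝔪)
    have hEV : ∀ (u : T ⊗[S] R) (y : T ⊗[S] A),
        (geoEval ψ φ).toRingHom (u • y) =
          (geoEval ψ (χof 𝔪)).toRingHom u • (geoEval ψ φ).toRingHom y := by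
      intro u y
      show geoEval ψ φ (u • y) = geoEval ψ (χof 𝔪) u • geoEval ψ φ y
      rw [smul_RT_def, map_mul, geoEval_baseMap ψ (χof 𝔪) φ hφ, ← Algebra.smul_def]
    have h1 := rankAtStalk_Lid_of_eval (T ⊗[S] R) (T ⊗[S] A) K n hrkT e he
      (geoEval ψ (χof 𝔪)).toRingHom (geoEval ψ φ).toRingHom hEV ⟨0, hn⟩ hev
    rw [← h1]
    congr 1
    ext1
    show Ideal.comap (algebraMap (T ⊗[S] R) (L ⊗[S] R)) 𝔪.asIdeal = _
    rw [hχof 𝔪]
    ext z
    rw [Ideal.mem_comap, RingHom.mem_ker, RingHom.mem_ker]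
    show geoEval (locPt ψ) (χof 𝔪) (algebraMap (T ⊗[S] R) (L ⊗[S] R) z) = 0 ↔
      geoEval ψ (χof 𝔪) z = 0
    rw [hιz]
  obtain ⟨g, hg, ⟨ϑ⟩⟩ := exists_away_split (T ⊗[S] R)
    (Algebra.algebraMapSubmonoid (T ⊗[S] R) (kerPt ψ).primeCompl) (L ⊗[S] R) (T ⊗[S] A) e he n
    hrank
  obtain ⟨g₀, hg₀, rfl⟩ := hg
  have hψg : ψ g₀ ≠ 0 := fun h => hg₀ (by
    show g₀ ∈ RingHom.ker ψ.toRingHom
    rw [RingHom.mem_ker]; exact h)
  refine ⟨g₀, hψg, ?_⟩
  let T' := Localization.Away g₀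
  let j₀ : T ⊗[S] R →ₐ[S] T' ⊗[S] R :=
    Algebra.TensorProduct.map (IsScalarTower.toAlgHom S T T') (AlgHom.id S R)
  have hunit : IsUnit (j₀.toRingHom (algebraMap T (T ⊗[S] R) g₀)) := by
    have h1 : j₀.toRingHom (algebraMap T (T ⊗[S] R) g₀) =
        algebraMap T' (T' ⊗[S] R) (algebraMap T T' g₀) := by
      show j₀ (algebraMap T (T ⊗[S] R) g₀) = _
      rw [Algebra.TensorProduct.algebraMap_apply, Algebra.TensorProduct.algebraMap_apply]
      simp [j₀]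
    rw [h1]
    exact (IsLocalization.Away.algebraMap_isUnit g₀).map _
  let j : Localization.Away (algebraMap T (T ⊗[S] R) g₀) →+* T' ⊗[S] R :=
    IsLocalization.Away.lift (algebraMap T (T ⊗[S] R) g₀) hunit
  have hj : ∀ z : T ⊗[S] R, j (algebraMap (T ⊗[S] R) _ z) = j₀ z := fun z =>
    IsLocalization.Away.lift_eq _ hunit z
  refine ⟨j.mapMatrix.comp (ϑ.toRingHom.comp
    (Algebra.TensorProduct.includeRight : A →ₐ[S] T ⊗[S] A).toRingHom), fun r => ?_⟩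
  show j.mapMatrix (ϑ ((1 : T) ⊗ₜ[S] algebraMap R A r)) = _
  have h1 : ((1 : T) ⊗ₜ[S] algebraMap R A r : T ⊗[S] A) =
      algebraMap (T ⊗[S] R) (T ⊗[S] A) ((1 : T) ⊗ₜ[S] r) := by
    rw [algebraMap_RT_apply, baseMap_tmul]
  rw [h1, AlgHom.commutes]
  ext a b
  simp only [RingHom.mapMatrix_apply, Matrix.map_apply, Matrix.algebraMap_matrix_apply,
    Matrix.scalar_apply, Matrix.diagonal_apply]
  split_ifs with hab
  · rw [hj]
    simp [j₀]
  · rw [map_zero]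

end Split

end Groth.Agent.Lib.Helper1.GeoNbhd
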