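import Mathlib
import Groth.Agent.Lib.Helper1.GeoNbhd.SplitNbhd
import Groth.Agent.Lib.Helper1.GeoNbhd.AzBij
import Groth.Agent.Lib.Helper1.AzInv.EtNbhd
import Groth.Agent.Lib.Helper1.AzInv.IsoInv

set_option autoImplicit false
set_option linter.style.haveILetI false
open TensorProduct

namespace Groth.Agent.Lib.Helper1.GeoNbhd

universe u v w

open Groth.Agent.Lib.Helper1.AzInvLib

section Integral
variable (S : Type u) [CommRing S] (R : Type v) [CommRing R] [Algebra S R]

theorem isIntegral_of_involution (lam : R ≃ₐ[S] R) (hlam : ∀ r, lam (lam r) = r)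
    (hfix : ∀ r, lam r = r → r ∈ Set.range (algebraMap S R)) : Algebra.IsIntegral S R := by
  let G := Subgroup.zpowers lam
  have hfo : IsOfFinOrder lam := by
    rw [isOfFinOrder_iff_pow_eq_one]
    refine ⟨2, by norm_num, ?_⟩
    ext r
    rw [pow_two]
    exact hlam r
  have hGfin : Finite G := (IsOfFinOrder.finite_zpowers hfo).to_subtype
  have hinv : Algebra.IsInvariant S R G :=
    ⟨fun b hb => hfix b (hb ⟨lam, Subgroup.mem_zpowers lam⟩)⟩
  exact Algebra.IsInvariant.isIntegral S R G

end Integral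

section LocalSplit
variable (S : Type u) [CommRing S] (R : Type v) [CommRing R] [Algebra S R]
  (A : Type w) [Ring A] [Algebra S A] [Algebra R A] [IsScalarTower S R A] [IsAzumaya R A]

/-- étale-local splitting on the fixed ring, at one prime -/
theorem exists_local_split (lam : R ≃ₐ[S] R) (hlam : ∀ r, lam (lam r) = r)
    (hinj : Function.Injective (algebraMap S R))
    (hfix : ∀ r, lam r = r → r ∈ Set.range (algebraMap S R)) (n : ℕ) (hn : 0 < n)
    (hrk : ∀ p : PrimeSpectrum R, Module.rankAtStalk A p = n ^ 2) (p : PrimeSpectrum S) :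
    ∃ N : EtNbhd S p, ∃ ϑ : A →+* Matrix (Fin n) (Fin n) (N.carrier ⊗[S] R),
      ∀ r : R, ϑ (algebraMap R A r) = Matrix.scalar (Fin n) ((1 : N.carrier) ⊗ₜ[S] r) := by
  classical
  haveI hint : Algebra.IsIntegral S R := isIntegral_of_involution S R lam hlam hfix
  haveI := p.isPrime
  obtain ⟨q, -, hqp, hq⟩ := Ideal.exists_ideal_over_prime_of_isIntegral p.asIdeal (⊥ : Ideal R)
    (by
      rw [← RingHom.ker_eq_comap_bot, (RingHom.injective_iff_ker_eq_bot _).mp hinj]
      exact bot_le)
  let K := AlgebraicClosure q.ResidueField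
  let χr : R →+* K := (algebraMap q.ResidueField K).comp (algebraMap R q.ResidueField)
  letI : Algebra S K := (χr.comp (algebraMap S R)).toAlgebra
  let χ₁ : R →ₐ[S] K := { χr with commutes' := fun _ => rfl }
  have hmemχ : ∀ r : R, χr r = 0 ↔ r ∈ q := by
    intro r
    show algebraMap q.ResidueField K (algebraMap R q.ResidueField r) = 0 ↔ _
    rw [map_eq_zero_iff _ (algebraMap q.ResidueField K).injective,
      Ideal.algebraMap_residueField_eq_zero]
  have hkerS : RingHom.ker (algebraMap S K) = p.asIdeal := by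
    rw [← hq]
    ext s
    rw [RingHom.mem_ker, Ideal.mem_comap]
    exact hmemχ (algebraMap S R s)
  have hfin : Finite (R →ₐ[S] K) := by
    have hall : ∀ χ : R →ₐ[S] K, χ ∈ ({χ₁, χ₁.comp (lam : R →ₐ[S] R)} : Set (R →ₐ[S] K)) := by
      intro χ
      rcases eq_or_eq_comp_of_fixed lam hlam hfix χ₁ χ with h | h
      · exact Or.inl h
      · exact Or.inr h
    exact Set.finite_univ_iff.mp ((Set.toFinite _).subset (fun χ _ => hall χ))
  obtain ⟨T, i1, i2, i3, ψ, e, he, hpt⟩ :=
    exists_nbhd_idempotent S R A K lam hlam hfix n hn hrk χ₁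
  obtain ⟨g₀, hg₀, ϑ, hϑ⟩ := exists_split_of_idempotent S R A K n hn hrk hfin T ψ e he hpt
  -- the neighbourhood
  haveI : Algebra.Etale T (Localization.Away g₀) := Algebra.Etale.of_isLocalizationAway g₀
  haveI : Algebra.Etale S (Localization.Away g₀) := Algebra.Etale.comp S T (Localization.Away g₀)
  let ψ' : Localization.Away g₀ →ₐ[S] K :=
    IsLocalization.liftAlgHom (M := Submonoid.powers g₀) (f := ψ) (fun y => by
      obtain ⟨k, hk⟩ := y.2
      rw [← hk, map_pow]
      exact (isUnit_iff_ne_zero.mpr hg₀).pow k)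
  refine ⟨{ carrier := Localization.Away g₀
            pt := ⟨RingHom.ker ψ'.toRingHom, RingHom.ker_isPrime _⟩
            hpt := ?_ }, ϑ, hϑ⟩
  ext1
  show Ideal.comap (algebraMap S (Localization.Away g₀)) (RingHom.ker ψ'.toRingHom) = p.asIdeal
  rw [← hkerS]
  ext s
  rw [Ideal.mem_comap, RingHom.mem_ker, RingHom.mem_ker]
  show ψ' (algebraMap S _ s) = 0 ↔ _
  rw [AlgHom.commutes]

end LocalSplit

section PiMatrix
variable {A : Type*} [Ring A] {ι : Type*} {C : ι → Type*} [∀ i, CommRing (C i)]
  {m : Type*} [Fintype m] [DecidableEq m]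

/-- a family of matrix representations over the factors gives one over the product -/
def piMatrixRingHom (ϑ : ∀ i, A →+* Matrix m m (C i)) : A →+* Matrix m m (∀ i, C i) where
  toFun a := Matrix.of fun j k i => ϑ i a j k
  map_one' := by
    ext j k i
    simp only [Matrix.of_apply, map_one, Matrix.one_apply]
    split_ifs <;> rfl
  map_mul' a b := by
    ext j k i
    simp only [Matrix.of_apply, map_mul, Matrix.mul_apply, Finset.sum_apply, Pi.mul_apply]
  map_zero' := by
    ext j k i
    simp
  map_add' a b := by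
    ext j k i
    simp

theorem piMatrixRingHom_apply (ϑ : ∀ i, A →+* Matrix m m (C i)) (a : A) (j k : m) (i : ι) :
    piMatrixRingHom ϑ a j k i = ϑ i a j k := rfl

end PiMatrix

section Cover
variable (S : Type u) [CommRing S] (R : Type v) [CommRing R] [Algebra S R]
  (A : Type w) [Ring A] [Algebra S A] [Algebra R A] [IsScalarTower S R A]

omit [Algebra S A] [IsScalarTower S R A] in
/-- from étale-local splittings at all primes to a splitting over a single étale covering -/
theorem exists_cover_split (n : ℕ)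
    (h : ∀ p : PrimeSpectrum S, ∃ N : EtNbhd S p,
      ∃ ϑ : A →+* Matrix (Fin n) (Fin n) (N.carrier ⊗[S] R),
        ∀ r : R, ϑ (algebraMap R A r) = Matrix.scalar (Fin n) ((1 : N.carrier) ⊗ₜ[S] r)) :
    ∃ (S' : Type u) (_ : CommRing S') (_ : Algebra S S') (_ : Algebra.Etale S S')
      (_ : Module.FaithfullyFlat S S') (ϑ : A →+* Matrix (Fin n) (Fin n) (S' ⊗[S] R)),
      ∀ r : R, ϑ (algebraMap R A r) = Matrix.scalar (Fin n) ((1 : S') ⊗ₜ[S] r) := by
  classical
  choose N ϑ hϑ using h
  let U : PrimeSpectrum S → Set (PrimeSpectrum S) := fun p =>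
    Set.range (PrimeSpectrum.comap (algebraMap S (N p).carrier))
  have hUo : ∀ p, IsOpen (U p) := fun p => isOpen_range_comap_of_etale S (N p).carrier
  have hUm : ∀ p, p ∈ U p := fun p => ⟨(N p).pt, (N p).hpt⟩
  obtain ⟨t, ht⟩ := isCompact_univ.elim_finite_subcover U hUo
    (fun p _ => Set.mem_iUnion.2 ⟨p, hUm p⟩)
  let ι : Type u := {p // p ∈ t}
  let B : ι → Type u := fun i => (N i.1).carrier
  let S' : Type u := ∀ i, B i
  have hFlat : Module.Flat S S' :=
    Module.Flat.of_linearEquiv (DFinsupp.linearEquivFunOnFintype (R := S) (M := B)).symm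
  have hff : Module.FaithfullyFlat S S' := by
    refine Module.FaithfullyFlat.of_comap_surjective fun q => ?_
    have hq := ht (Set.mem_univ q)
    simp only [Set.mem_iUnion] at hq
    obtain ⟨p, hp, q', hq'⟩ := hq
    refine ⟨PrimeSpectrum.comap (Pi.evalRingHom B ⟨p, hp⟩) q', ?_⟩
    rw [← hq']
    rfl
  let Θ : A →+* Matrix (Fin n) (Fin n) (S' ⊗[S] R) :=
    ((piTensor (R := S) B R).symm.toAlgHom.toRingHom).mapMatrix.comp
      (piMatrixRingHom (fun i : ι => ϑ i.1))
  refine ⟨S', inferInstance, inferInstance, inferInstance, hff, Θ, fun r => ?_⟩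
  ext j k
  show (piTensor (R := S) B R).symm (fun i : ι => ϑ i.1 (algebraMap R A r) j k) = _
  have h1 : (fun i : ι => ϑ i.1 (algebraMap R A r) j k) =
      piTensor (R := S) B R (Matrix.scalar (Fin n) ((1 : S') ⊗ₜ[S] r) j k) := by
    funext i
    rw [hϑ]
    simp only [Matrix.scalar_apply, Matrix.diagonal_apply]
    split_ifs
    · rw [piTensor_tmul]; rfl
    · rw [map_zero]; rfl
  rw [h1, AlgEquiv.symm_apply_apply]

end Cover

theorem algebraMap_matrix_eq_scalar {R' : Type*} {α : Type*} [CommSemiring R'] [Semiring α]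
    [Algebra R' α] {n : ℕ} (r : R') :
    algebraMap R' (Matrix (Fin n) (Fin n) α) r = Matrix.scalar (Fin n) (algebraMap R' α r) := by
  ext i j
  simp [Matrix.algebraMap_matrix_apply, Matrix.scalar_apply, Matrix.diagonal_apply]

section Equiv
variable (S : Type u) [CommRing S] (R : Type v) [CommRing R] [Algebra S R]
  (A : Type w) [Ring A] [Algebra S A] [Algebra R A] [IsScalarTower S R A] [IsAzumaya R A]

attribute [local instance] algRT

/-- a splitting homomorphism gives a splitting isomorphism -/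
theorem exists_equiv_of_split (n : ℕ) (hn : 0 < n)
    (hrk : ∀ p : PrimeSpectrum R, Module.rankAtStalk A p = n ^ 2)
    (S' : Type u) [CommRing S'] [Algebra S S']
    (ϑ : A →+* Matrix (Fin n) (Fin n) (S' ⊗[S] R))
    (hϑ : ∀ r : R, ϑ (algebraMap R A r) = Matrix.scalar (Fin n) ((1 : S') ⊗ₜ[S] r)) :
    ∃ f : S' ⊗[S] A ≃ₐ[S'] Matrix (Fin n) (Fin n) (S' ⊗[S] R),
      ∀ (r : R) (x : S' ⊗[S] A),
        f (((1 : S') ⊗ₜ[S] algebraMap R A r) * x) =
          Matrix.scalar (Fin n) ((1 : S') ⊗ₜ[S] r) * f x := by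
  classical
  let ϑS : A →ₐ[S] Matrix (Fin n) (Fin n) (S' ⊗[S] R) :=
    { ϑ with
      commutes' := fun s => by
        show ϑ (algebraMap S A s) = _
        rw [IsScalarTower.algebraMap_apply S R A, hϑ]
        ext j k
        simp only [Matrix.scalar_apply, Matrix.diagonal_apply, Matrix.algebraMap_matrix_apply]
        split_ifs
        · rw [Algebra.algebraMap_eq_smul_one s, Algebra.algebraMap_eq_smul_one s,
            TensorProduct.tmul_smul, Algebra.TensorProduct.one_def]
        · rfl }
  let F : S' ⊗[S] A →ₐ[S'] Matrix (Fin n) (Fin n) (S' ⊗[S] R) :=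
    Algebra.TensorProduct.lift (Algebra.ofId S' _) ϑS
      (fun _ _ => Algebra.commute_algebraMap_left _ _)
  have hF : ∀ (s : S') (a : A), F (s ⊗ₜ[S] a) =
      algebraMap S' (Matrix (Fin n) (Fin n) (S' ⊗[S] R)) s * ϑ a := by
    intro s a
    simp [F, Algebra.ofId_apply, ϑS]
  have hkey : ∀ u : S' ⊗[S] R, F (baseMap S R A S' u) =
      algebraMap (S' ⊗[S] R) (Matrix (Fin n) (Fin n) (S' ⊗[S] R)) u := by
    intro u
    induction u using TensorProduct.induction_on with
    | zero => simp
    | add a b ha hb => rw [map_add, map_add, map_add, ha, hb]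
    | tmul s r =>
      rw [baseMap_tmul, hF, hϑ, algebraMap_matrix_eq_scalar, algebraMap_matrix_eq_scalar,
        ← map_mul (Matrix.scalar (Fin n))]
      congr 1
      rw [Algebra.TensorProduct.algebraMap_apply, Algebra.algebraMap_self, RingHom.id_apply,
        Algebra.TensorProduct.tmul_mul_tmul, mul_one, one_mul, Algebra.algebraMap_self,
        RingHom.id_apply]
  haveI hAz : IsAzumaya (S' ⊗[S] R) (S' ⊗[S] A) := isAzumaya_tower S R A S'
  let FC : S' ⊗[S] A →ₐ[S' ⊗[S] R] Matrix (Fin n) (Fin n) (S' ⊗[S] R) :=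
    { F.toRingHom with
      commutes' := fun u => by
        rw [algebraMap_RT_apply]
        exact hkey u }
  have hbij : Function.Bijective F :=
    algHom_bijective_of_azumaya (S' ⊗[S] R) (S' ⊗[S] A) n hn
      (rankAtStalk_tower S R A S' (n ^ 2) hrk) FC
  refine ⟨AlgEquiv.ofBijective F hbij, fun r x => ?_⟩
  show F (((1 : S') ⊗ₜ[S] algebraMap R A r) * x) = _ * F x
  rw [map_mul]
  congr 1
  have := hkey ((1 : S') ⊗ₜ[S] r)
  rw [baseMap_tmul] at this
  rw [this, algebraMap_matrix_eq_scalar, Algebra.algebraMap_self, RingHom.id_apply]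

end Equiv

end Groth.Agent.Lib.Helper1.GeoNbhd
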