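import Mathlib
import Groth.Prelude.Def_W4c2azumayainvolQEt
import Groth.Agent.Lib.Helper79.RInvLoc
import Groth.Agent.Lib.Helper1.GeoNbhd.Final

set_option autoImplicit false
set_option linter.style.haveILetI false
open TensorProduct Polynomial

namespace Groth.Agent.Lib.Helper1.GeoNbhd

universe u v w

open Groth.Agent.Lib.Helper1.AzInvLib Groth.Agent.Lib.Helper79.RInvLib

section GeoPoint
variable (S : Type u) [CommRing S] (R : Type v) [CommRing R] [Algebra S R]

/-- a geometric point of `R` over a prime of `S` -/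
theorem exists_geoPoint [Algebra.IsIntegral S R] (hinj : Function.Injective (algebraMap S R))
    (p : PrimeSpectrum S) :
    ∃ (K : Type v) (_ : Field K) (_ : IsAlgClosed K) (_ : Algebra S K) (_ : R →ₐ[S] K),
      RingHom.ker (algebraMap S K) = p.asIdeal := by
  haveI := p.isPrime
  obtain ⟨q, -, hqp, hq⟩ := Ideal.exists_ideal_over_prime_of_isIntegral p.asIdeal (⊥ : Ideal R)
    (by
      rw [← RingHom.ker_eq_comap_bot, (RingHom.injective_iff_ker_eq_bot _).mp hinj]
      exact bot_le)
  let K := AlgebraicClosure q.ResidueField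
  let χr : R →+* K := (algebraMap q.ResidueField K).comp (algebraMap R q.ResidueField)
  letI : Algebra S K := (χr.comp (algebraMap S R)).toAlgebra
  let χ₁ : R →ₐ[S] K := { χr with commutes' := fun _ => rfl }
  have hmemχ : ∀ r : R, χr r = 0 ↔ r ∈ q := by
    intro r
    show algebraMap q.ResidueField K (algebraMap R q.ResidueField r) = 0 ↔ _
    rw [map_eq_zero_iff _ (algebraMap q.ResidueField K).injective,
      Ideal.algebraMap_residueField_eq_zero]
  refine ⟨K, inferInstance, inferInstance, inferInstance, χ₁, ?_⟩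
  rw [← hq]
  ext s
  rw [RingHom.mem_ker, Ideal.mem_comap]
  exact hmemχ (algebraMap S R s)

end GeoPoint

section BaseChange
variable {S : Type u} [CommRing S] {R : Type v} [CommRing R] [Algebra S R]

theorem isQuadEtale_baseChange (hq : RInv.IsQuadEtale S R) (S' : Type w) [CommRing S']
    [Algebra S S'] : RInv.IsQuadEtale S' (S' ⊗[S] R) := by
  obtain ⟨hfin, hproj, hunr, hrank⟩ := hq
  refine ⟨inferInstance, inferInstance, inferInstance, fun p => ?_⟩
  rw [Module.rankAtStalk_baseChange, hrank]

/-- in the quadratic étale case the two geometric points over a geometric point of `S` differ -/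
theorem exists_separating (lam : R ≃ₐ[S] R) (hlam : ∀ r, lam (lam r) = r)
    (hfix : RInv.IsFixedRing S R lam.toRingEquiv) (hq : RInv.IsQuadEtale S R)
    (K : Type w) [Field K] [Algebra S K] (χ₁ : R →ₐ[S] K) (p : PrimeSpectrum S)
    (hker : RingHom.ker (algebraMap S K) = p.asIdeal) : ∃ y : R, χ₁ y ≠ χ₁ (lam y) := by
  classical
  haveI := p.isPrime
  let Sp := Localization.AtPrime p.asIdeal
  let ξ : Sp →ₐ[S] K := IsLocalization.liftAlgHom (M := p.asIdeal.primeCompl)
    (f := Algebra.ofId S K) (fun y => by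
      have hmem : ∀ s : S, algebraMap S K s = 0 → s ∈ p.asIdeal := fun s hs => by
        have : s ∈ RingHom.ker (algebraMap S K) := (RingHom.mem_ker).mpr hs
        rwa [hker] at this
      have : algebraMap S K y ≠ 0 := fun h => y.2 (hmem _ h)
      exact isUnit_iff_ne_zero.mpr this)
  let Ξ : Sp ⊗[S] R →ₐ[S] K := Algebra.TensorProduct.lift ξ χ₁ (fun _ _ => Commute.all _ _)
  have hΞ : ∀ (s : Sp) (r : R), Ξ (s ⊗ₜ[S] r) = ξ s * χ₁ r := fun s r => by simp [Ξ]
  have hfixp : RInv.IsFixedRing Sp (Sp ⊗[S] R) (bcLam (S' := Sp) lam) :=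
    isFixedRing_baseChange_of_flat lam hfix
  have hinvp : Function.Involutive (bcLam (S' := Sp) lam) :=
    bcLam_involutive (S' := Sp) lam (fun r => hlam r)
  have hqp : RInv.IsQuadEtale Sp (Sp ⊗[S] R) := isQuadEtale_baseChange hq Sp
  obtain ⟨ρ, hρ⟩ := exists_isUnit_sub_of_isQuadEtale (bcLam (S' := Sp) lam) hinvp hfixp hqp
  by_contra h
  push Not at h
  have hinv : ∀ z : Sp ⊗[S] R, Ξ (bcLam (S' := Sp) lam z) = Ξ z := by
    intro z
    induction z using TensorProduct.induction_on with
    | zero => simp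
    | add a b ha hb => rw [map_add, map_add, map_add, ha, hb]
    | tmul s r => rw [bcLam_tmul, hΞ, hΞ, ← h r]
  have h0 : Ξ (ρ - bcLam (S' := Sp) lam ρ) = 0 := by rw [map_sub, hinv, sub_self]
  have hu : IsUnit (Ξ (ρ - bcLam (S' := Sp) lam ρ)) := hρ.map Ξ
  rw [h0] at hu
  exact not_isUnit_zero hu

end BaseChange

section SwapIdem
variable (S : Type u) [CommRing S] (R : Type v) [CommRing R] [Algebra S R]

/-- an idempotent of `T ⊗ R` exchanged with its complement by the involution, on an étale
neighbourhood of a geometric point where the two points of `R` differ -/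
theorem exists_etale_swap_idem (lam : R ≃ₐ[S] R) (hlam : ∀ r, lam (lam r) = r)
    (hfix : ∀ r, lam r = r → r ∈ Set.range (algebraMap S R))
    (K : Type w) [Field K] [Algebra S K] (χ₁ : R →ₐ[S] K) (y : R) (hy : χ₁ y ≠ χ₁ (lam y)) :
    ∃ (T : Type u) (_ : CommRing T) (_ : Algebra S T) (_ : Algebra.Etale S T) (_ : T →ₐ[S] K)
      (e : T ⊗[S] R), IsIdempotentElem e ∧
        Algebra.TensorProduct.map (AlgHom.id T T) (lam : R →ₐ[S] R) e = 1 - e := by
  classical
  obtain ⟨s₁, hs₁⟩ := hfix (y + lam y) (by rw [map_add, hlam, add_comm])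
  obtain ⟨s₂, hs₂⟩ := hfix (y * lam y) (by rw [map_mul, hlam, mul_comm])
  set G : S[X] := X ^ 2 + (C (-s₁) * X + C s₂) with hG
  have hGm : G.Monic := monic_X_pow_add (lt_of_le_of_lt (degree_linear_le) (by norm_num))
  have hK1 : algebraMap S K s₁ = χ₁ y + χ₁ (lam y) := by
    rw [← map_add, ← hs₁, AlgHom.commutes]
  have hK2 : algebraMap S K s₂ = χ₁ y * χ₁ (lam y) := by
    rw [← map_mul, ← hs₂, AlgHom.commutes]
  have hfac : (X - C (χ₁ y)) * (X - C (χ₁ (lam y))) = G.map (algebraMap S K) := by
    rw [hG]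
    simp only [Polynomial.map_add, Polynomial.map_pow, Polynomial.map_mul, map_X, map_C, map_neg,
      Polynomial.map_neg, hK1, hK2, C_add, C_mul]
    ring
  have hcop : IsCoprime (X - C (χ₁ y)) (X - C (χ₁ (lam y))) :=
    isCoprime_X_sub_C_of_isUnit_sub (isUnit_iff_ne_zero.mpr (sub_ne_zero.mpr hy))
  obtain ⟨T, i1, i2, i3, ψ, g, h, hgm, hhm, hgh, hcop', hgψ, hhψ⟩ :=
    exists_etale_factorization S K G hGm _ _ (monic_X_sub_C _) (monic_X_sub_C _) hfac hcop
  have hgdeg : g.natDegree = 1 := by
    rw [← hgm.natDegree_map ψ.toRingHom, hgψ, natDegree_X_sub_C]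
  have hhdeg : h.natDegree = 1 := by
    rw [← hhm.natDegree_map ψ.toRingHom, hhψ, natDegree_X_sub_C]
  set a : T := -g.coeff 0 with ha
  set b : T := -h.coeff 0 with hb
  have hg : g = X - C a := by
    rw [hgm.eq_X_add_C hgdeg, ha, C_neg, sub_neg_eq_add]
  have hh : h = X - C b := by
    rw [hhm.eq_X_add_C hhdeg, hb, C_neg, sub_neg_eq_add]
  -- evaluate
  have hGeval : ∀ c : T, (c - a) * (c - b) =
      c ^ 2 + (-(algebraMap S T s₁) * c + algebraMap S T s₂) := by
    intro c
    have := congrArg (Polynomial.eval c) hgh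
    rw [hg, hh, hG] at this
    simpa using this
  obtain ⟨u, v, huv⟩ := hcop'
  have hunit : v.eval a * (a - b) = 1 := by
    have := congrArg (Polynomial.eval a) huv
    rw [hg, hh] at this
    simpa using this
  have hsum : algebraMap S T s₁ = a + b := by
    have h1 := hGeval a
    have h2 := hGeval b
    rw [sub_self, zero_mul] at h1
    rw [sub_self, mul_zero] at h2
    have h3 : (a - b) * (a + b - algebraMap S T s₁) = 0 := by linear_combination h2 - h1
    have h4 : a + b - algebraMap S T s₁ = 0 := by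
      calc a + b - algebraMap S T s₁
          = v.eval a * ((a - b) * (a + b - algebraMap S T s₁)) := by
            rw [← mul_assoc, hunit, one_mul]
        _ = 0 := by rw [h3, mul_zero]
    linear_combination -h4
  have hprod : algebraMap S T s₂ = a * b := by
    have h1 := hGeval a
    rw [sub_self, zero_mul] at h1
    linear_combination -h1 + a * hsum
  -- the elements of T ⊗ R
  set d : T := -(v.eval a) with hd
  have hdu : d * (b - a) = 1 := by rw [hd]; linear_combination hunit
  set α : T ⊗[S] R := a ⊗ₜ[S] (1 : R) with hα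
  set β : T ⊗[S] R := b ⊗ₜ[S] (1 : R) with hβ
  set δ : T ⊗[S] R := d ⊗ₜ[S] (1 : R) with hδ
  set w : T ⊗[S] R := (1 : T) ⊗ₜ[S] y with hw
  set w' : T ⊗[S] R := (1 : T) ⊗ₜ[S] lam y with hw'
  have hδu : δ * (β - α) = 1 := by
    rw [hδ, hβ, hα, ← TensorProduct.sub_tmul, Algebra.TensorProduct.tmul_mul_tmul, hdu, mul_one,
      Algebra.TensorProduct.one_def]
  have hS : ∀ s : S, (algebraMap S T s) ⊗ₜ[S] (1 : R) = (1 : T) ⊗ₜ[S] algebraMap S R s := by
    intro s
    rw [Algebra.algebraMap_eq_smul_one, Algebra.algebraMap_eq_smul_one, TensorProduct.smul_tmul]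
  have hab : α + β = w + w' := by
    rw [hα, hβ, hw, hw', ← TensorProduct.add_tmul, ← hsum, hS, hs₁, TensorProduct.tmul_add]
  have habp : α * β = w * w' := by
    rw [hα, hβ, hw, hw', Algebra.TensorProduct.tmul_mul_tmul, Algebra.TensorProduct.tmul_mul_tmul,
      mul_one, one_mul, ← hprod, hS, hs₂]
  have hzero : (w - α) * (w - β) = 0 := by
    linear_combination (-w) * hab + habp
  refine ⟨T, i1, i2, i3, ψ, (w - α) * δ, ?_, ?_⟩
  · unfold IsIdempotentElem
    linear_combination δ ^ 2 * hzero + (w - α) * δ * hδu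
  · have h1 : Algebra.TensorProduct.map (AlgHom.id T T) (lam : R →ₐ[S] R) w = w' := by
      rw [hw, Algebra.TensorProduct.map_tmul]; rfl
    have h2 : ∀ c : T, Algebra.TensorProduct.map (AlgHom.id T T) (lam : R →ₐ[S] R)
        (c ⊗ₜ[S] (1 : R)) = c ⊗ₜ[S] (1 : R) := by
      intro c
      rw [Algebra.TensorProduct.map_tmul, map_one]; rfl
    rw [map_mul, map_sub, h1, hα, hδ, h2, h2, ← hα, ← hδ]
    linear_combination hδu - δ * hab

/-- local existence of a swapped idempotent in the quadratic étale case -/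
theorem exists_local_swap_idem (lam : R ≃ₐ[S] R) (hlam : ∀ r, lam (lam r) = r)
    (hfix : RInv.IsFixedRing S R lam.toRingEquiv) (hq : RInv.IsQuadEtale S R)
    (p : PrimeSpectrum S) :
    ∃ N : EtNbhd S p, ∃ e : N.carrier ⊗[S] R, IsIdempotentElem e ∧
      Algebra.TensorProduct.map (AlgHom.id N.carrier N.carrier) (lam : R →ₐ[S] R) e = 1 - e := by
  have hfix' : ∀ r, lam r = r → r ∈ Set.range (algebraMap S R) := fun r hr => (hfix.2 r).1 hr
  haveI hint : Algebra.IsIntegral S R := isIntegral_of_involution S R lam hlam hfix'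
  obtain ⟨K, i1, i2, i3, χ₁, hker⟩ := exists_geoPoint S R hfix.1 p
  obtain ⟨y, hy⟩ := exists_separating lam hlam hfix hq K χ₁ p hker
  obtain ⟨T, j1, j2, j3, ψ, e, he, hswap⟩ := exists_etale_swap_idem S R lam hlam hfix' K χ₁ y hy
  refine ⟨{ carrier := T
            pt := ⟨RingHom.ker ψ.toRingHom, RingHom.ker_isPrime _⟩
            hpt := ?_ }, e, he, hswap⟩
  ext1
  show Ideal.comap (algebraMap S T) (RingHom.ker ψ.toRingHom) = p.asIdeal
  rw [← hker]
  ext s
  rw [Ideal.mem_comap, RingHom.mem_ker, RingHom.mem_ker]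
  show ψ (algebraMap S _ s) = 0 ↔ _
  rw [AlgHom.commutes]

/-- a swapped idempotent over a single étale covering -/
theorem exists_cover_swap_idem (lam : R ≃ₐ[S] R) (hlam : ∀ r, lam (lam r) = r)
    (hfix : RInv.IsFixedRing S R lam.toRingEquiv) (hq : RInv.IsQuadEtale S R) :
    ∃ (S' : Type u) (_ : CommRing S') (_ : Algebra S S') (_ : Algebra.Etale S S')
      (_ : Module.FaithfullyFlat S S') (e : S' ⊗[S] R), IsIdempotentElem e ∧
      Algebra.TensorProduct.map (AlgHom.id S' S') (lam : R →ₐ[S] R) e = 1 - e := by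
  classical
  choose N e he hswap using exists_local_swap_idem S R lam hlam hfix hq
  let U : PrimeSpectrum S → Set (PrimeSpectrum S) := fun p =>
    Set.range (PrimeSpectrum.comap (algebraMap S (N p).carrier))
  have hUo : ∀ p, IsOpen (U p) := fun p => isOpen_range_comap_of_etale S (N p).carrier
  have hUm : ∀ p, p ∈ U p := fun p => ⟨(N p).pt, (N p).hpt⟩
  obtain ⟨t, ht⟩ := isCompact_univ.elim_finite_subcover U hUo
    (fun p _ => Set.mem_iUnion.2 ⟨p, hUm p⟩)
  let ι : Type u := {p // p ∈ t}
  let B : ι → Type u := fun i => (N i.1).carrier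
  let S' : Type u := ∀ i, B i
  have hFlat : Module.Flat S S' :=
    Module.Flat.of_linearEquiv (DFinsupp.linearEquivFunOnFintype (R := S) (M := B)).symm
  have hff : Module.FaithfullyFlat S S' := by
    refine Module.FaithfullyFlat.of_comap_surjective fun q => ?_
    have hq := ht (Set.mem_univ q)
    simp only [Set.mem_iUnion] at hq
    obtain ⟨p, hp, q', hq'⟩ := hq
    refine ⟨PrimeSpectrum.comap (Pi.evalRingHom B ⟨p, hp⟩) q', ?_⟩
    rw [← hq']
    rfl
  have hnat : ∀ (z : S' ⊗[S] R) (i : ι),
      piTensor (R := S) B R (Algebra.TensorProduct.map (AlgHom.id S' S') (lam : R →ₐ[S] R) z) i =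
        Algebra.TensorProduct.map (AlgHom.id (B i) (B i)) (lam : R →ₐ[S] R)
          (piTensor (R := S) B R z i) := by
    intro z i
    induction z using TensorProduct.induction_on with
    | zero => simp
    | add a b ha hb => simp only [map_add, Pi.add_apply, ha, hb]
    | tmul s r =>
      rw [Algebra.TensorProduct.map_tmul, piTensor_tmul, piTensor_tmul,
        Algebra.TensorProduct.map_tmul]
      rfl
  let E : ∀ i : ι, B i ⊗[S] R := fun i => e i.1
  refine ⟨S', inferInstance, inferInstance, inferInstance, hff, (piTensor (R := S) B R).symm E,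
    ?_, ?_⟩
  · have hE : IsIdempotentElem E := by
      funext i
      exact (he i.1).eq
    exact hE.map (piTensor (R := S) B R).symm
  · apply (piTensor (R := S) B R).injective
    funext i
    rw [hnat, AlgEquiv.apply_symm_apply, map_sub, map_one, AlgEquiv.apply_symm_apply]
    exact hswap i.1

end SwapIdem

end Groth.Agent.Lib.Helper1.GeoNbhd
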