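import Mathlib
import Groth.Prelude.Def_AzInv

set_option autoImplicit false
set_option linter.style.haveILetI false
open TensorProduct

namespace Groth.Agent.Lib.Helper1.GeoNbhd

universe u v w

section Twist
variable {R' : Type u} [CommRing R'] {M : Type v} [Ring M] [Algebra R' M]

/-- glueing the identity and an algebra endomorphism along an idempotent of the base -/
def twist (e : R') (he : IsIdempotentElem e) (γ : M →ₐ[R'] M) : M →ₐ[R'] M where
  toFun Z := e • Z + (1 - e) • γ Z
  map_one' := by rw [map_one, ← add_smul, add_sub_cancel, one_smul]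
  map_mul' Z W := by
    have h1 : e * (1 - e) = 0 := by rw [mul_sub, mul_one, he.eq, sub_self]
    have h2 : (1 - e) * e = 0 := by rw [mul_comm, h1]
    have h3 : (1 - e) * (1 - e) = 1 - e := he.one_sub.eq
    rw [map_mul, add_mul, mul_add, mul_add, smul_mul_smul_comm, smul_mul_smul_comm,
      smul_mul_smul_comm, smul_mul_smul_comm, he.eq, h1, h2, h3, zero_smul, zero_smul, add_zero,
      zero_add]
  map_zero' := by rw [map_zero, smul_zero, smul_zero, add_zero]
  map_add' Z W := by rw [map_add, smul_add, smul_add]; abel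
  commutes' u := by
    rw [AlgHom.commutes, ← add_smul, add_sub_cancel, one_smul]

theorem twist_apply (e : R') (he : IsIdempotentElem e) (γ : M →ₐ[R'] M) (Z : M) :
    twist e he γ Z = e • Z + (1 - e) • γ Z := rfl

theorem twist_comp (e : R') (he : IsIdempotentElem e) (γ γ' : M →ₐ[R'] M)
    (h : ∀ Z, γ (γ' Z) = Z) (Z : M) : twist e he γ (twist e he γ' Z) = Z := by
  have h1 : e * (1 - e) = 0 := by rw [mul_sub, mul_one, he.eq, sub_self]
  have h2 : (1 - e) * e = 0 := by rw [mul_comm, h1]
  have h3 : (1 - e) * (1 - e) = 1 - e := he.one_sub.eq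
  rw [twist_apply, twist_apply, map_add, map_smul, map_smul, h, smul_add, smul_add, smul_smul,
    smul_smul, smul_smul, smul_smul, he.eq, h1, h2, h3, zero_smul, zero_smul, add_zero, zero_add,
    ← add_smul, add_sub_cancel, one_smul]

end Twist

section Intertwine
open AzInv
variable {R' : Type u} [CommRing R'] {M : Type v} [Ring M] [Algebra R' M] {lam' : R' → R'}

/-- the composite of two semilinear involutions as an algebra endomorphism -/
def compInv (hll : ∀ u, lam' (lam' u) = u) (τ' t' : LamInv R' M lam') : M →ₐ[R'] M where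
  toFun Z := τ' (t' Z)
  map_one' := by rw [t'.map_one, τ'.map_one]
  map_mul' Z W := by rw [t'.map_mul, τ'.map_mul]
  map_zero' := by rw [t'.map_zero, τ'.map_zero]
  map_add' Z W := by rw [t'.map_add, τ'.map_add]
  commutes' u := by rw [t'.map_algebraMap, τ'.map_algebraMap, hll]

theorem compInv_apply (hll : ∀ u, lam' (lam' u) = u) (τ' t' : LamInv R' M lam') (Z : M) :
    compInv hll τ' t' Z = τ' (t' Z) := rfl

/-- two semilinear involutions are conjugate as soon as the base has an idempotent exchanged with
its complement -/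
theorem exists_algEquiv_intertwine (hll : ∀ u, lam' (lam' u) = u) (e : R')
    (he : IsIdempotentElem e) (hle : lam' e = 1 - e) (t' τ' : LamInv R' M lam') :
    ∃ g : M ≃ₐ[R'] M, ∀ Z, g (t' Z) = τ' (g Z) := by
  have hle' : lam' (1 - e) = e := by rw [← hle, hll]
  let g : M ≃ₐ[R'] M := AlgEquiv.ofAlgHom (twist e he (compInv hll τ' t'))
    (twist e he (compInv hll t' τ'))
    (AlgHom.ext fun Z => twist_comp e he _ _ (fun W => by
      rw [compInv_apply, compInv_apply, t'.invol, τ'.invol]) Z)
    (AlgHom.ext fun Z => twist_comp e he _ _ (fun W => by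
      rw [compInv_apply, compInv_apply, τ'.invol, t'.invol]) Z)
  refine ⟨g, fun Z => ?_⟩
  show twist e he (compInv hll τ' t') (t' Z) = τ' (twist e he (compInv hll τ' t') Z)
  rw [twist_apply, twist_apply, compInv_apply, compInv_apply, t'.invol, τ'.map_add, τ'.map_smul,
    τ'.map_smul, τ'.invol, hle, hle', add_comm]

end Intertwine

end Groth.Agent.Lib.Helper1.GeoNbhd
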