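import Mathlib
import Groth.Prelude.Def_AzInv
import Groth.Agent.Lib.Helper1.GeoNbhd.QuadEtale
import Groth.Agent.Lib.Helper1.GeoNbhd.Twist
import Groth.Agent.Lib.Helper1.AzInv.Main

set_option autoImplicit false
set_option linter.style.haveILetI false
open TensorProduct

namespace Groth.Agent.Lib.Helper1.GeoNbhd

universe u v w

open Groth.Agent.Lib.Helper1.AzInvLib AzInv

section EquivRT
variable (S : Type u) [CommRing S] (R : Type v) [CommRing R] [Algebra S R]
  (A : Type w) [Ring A] [Algebra S A] [Algebra R A] [IsScalarTower S R A] [IsAzumaya R A]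

attribute [local instance] algRT

/-- a splitting homomorphism gives a splitting isomorphism, linear over `S' ⊗ R` -/
theorem exists_equivRT_of_split (n : ℕ) (hn : 0 < n)
    (hrk : ∀ p : PrimeSpectrum R, Module.rankAtStalk A p = n ^ 2)
    (S' : Type u) [CommRing S'] [Algebra S S']
    (ϑ : A →+* Matrix (Fin n) (Fin n) (S' ⊗[S] R))
    (hϑ : ∀ r : R, ϑ (algebraMap R A r) = Matrix.scalar (Fin n) ((1 : S') ⊗ₜ[S] r)) :
    ∃ f : S' ⊗[S] A ≃ₐ[S' ⊗[S] R] Matrix (Fin n) (Fin n) (S' ⊗[S] R),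
      ∀ (s : S') (a : A), f (s ⊗ₜ[S] a) =
        algebraMap S' (Matrix (Fin n) (Fin n) (S' ⊗[S] R)) s * ϑ a := by
  classical
  let ϑS : A →ₐ[S] Matrix (Fin n) (Fin n) (S' ⊗[S] R) :=
    { ϑ with
      commutes' := fun s => by
        show ϑ (algebraMap S A s) = _
        rw [IsScalarTower.algebraMap_apply S R A, hϑ]
        ext j k
        simp only [Matrix.scalar_apply, Matrix.diagonal_apply, Matrix.algebraMap_matrix_apply]
        split_ifs
        · rw [Algebra.algebraMap_eq_smul_one s, Algebra.algebraMap_eq_smul_one s,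
            TensorProduct.tmul_smul, Algebra.TensorProduct.one_def]
        · rfl }
  let F : S' ⊗[S] A →ₐ[S'] Matrix (Fin n) (Fin n) (S' ⊗[S] R) :=
    Algebra.TensorProduct.lift (Algebra.ofId S' _) ϑS
      (fun _ _ => Algebra.commute_algebraMap_left _ _)
  have hF : ∀ (s : S') (a : A), F (s ⊗ₜ[S] a) =
      algebraMap S' (Matrix (Fin n) (Fin n) (S' ⊗[S] R)) s * ϑ a := by
    intro s a
    simp [F, Algebra.ofId_apply, ϑS]
  have hkey : ∀ u : S' ⊗[S] R, F (baseMap S R A S' u) =
      algebraMap (S' ⊗[S] R) (Matrix (Fin n) (Fin n) (S' ⊗[S] R)) u := by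
    intro u
    induction u using TensorProduct.induction_on with
    | zero => simp
    | add a b ha hb => rw [map_add, map_add, map_add, ha, hb]
    | tmul s r =>
      rw [baseMap_tmul, hF, hϑ, algebraMap_matrix_eq_scalar, algebraMap_matrix_eq_scalar,
        ← map_mul (Matrix.scalar (Fin n))]
      congr 1
      rw [Algebra.TensorProduct.algebraMap_apply, Algebra.algebraMap_self, RingHom.id_apply,
        Algebra.TensorProduct.tmul_mul_tmul, mul_one, one_mul, Algebra.algebraMap_self,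
        RingHom.id_apply]
  haveI hAz : IsAzumaya (S' ⊗[S] R) (S' ⊗[S] A) := isAzumaya_tower S R A S'
  let FC : S' ⊗[S] A →ₐ[S' ⊗[S] R] Matrix (Fin n) (Fin n) (S' ⊗[S] R) :=
    { F.toRingHom with
      commutes' := fun u => by
        rw [algebraMap_RT_apply]
        exact hkey u }
  have hbij : Function.Bijective FC :=
    algHom_bijective_of_azumaya (S' ⊗[S] R) (S' ⊗[S] A) n hn
      (rankAtStalk_tower S R A S' (n ^ 2) hrk) FC
  exact ⟨AlgEquiv.ofBijective FC hbij, fun s a => hF s a⟩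

end EquivRT

section Semilinear
variable {S : Type u} [CommRing S] {R : Type v} [CommRing R] [Algebra S R]
  {A : Type w} [Ring A] [Algebra S A] [Algebra R A] [IsScalarTower S R A]
  (lam : R ≃ₐ[S] R) (S' : Type u) [CommRing S'] [Algebra S S']

attribute [local instance] algRT

/-- the base-changed involution of the base -/
noncomputable abbrev bcΛ : S' ⊗[S] R →ₐ[S'] S' ⊗[S] R :=
  Algebra.TensorProduct.map (AlgHom.id S' S') (lam : R →ₐ[S] R)

theorem bcΛ_tmul (s : S') (r : R) : bcΛ lam S' (s ⊗ₜ[S] r) = s ⊗ₜ[S] lam r := by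
  simp [bcΛ]

theorem bcΛ_invol (hlam : ∀ r, lam (lam r) = r) (u : S' ⊗[S] R) :
    bcΛ lam S' (bcΛ lam S' u) = u := by
  induction u using TensorProduct.induction_on with
  | zero => simp
  | add a b ha hb => rw [map_add, map_add, ha, hb]
  | tmul s r => rw [bcΛ_tmul, bcΛ_tmul, hlam]

theorem bc_smul_RT (σ : LamInv R A lam) (u : S' ⊗[S] R) (x : S' ⊗[S] A) :
    σ.bc S lam S' (u • x) = bcΛ lam S' u • σ.bc S lam S' x := by
  induction u using TensorProduct.induction_on with
  | zero => simp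
  | add a b ha hb => rw [add_smul, map_add, ha, hb, map_add, add_smul]
  | tmul s r =>
    induction x using TensorProduct.induction_on with
    | zero => simp
    | add a b ha hb => rw [smul_add, map_add, ha, hb, map_add, smul_add]
    | tmul s' a =>
      rw [smul_RT_def, baseMap_tmul, Algebra.TensorProduct.tmul_mul_tmul, LamInv.bc_tmul,
        LamInv.bc_tmul, bcΛ_tmul, smul_RT_def, baseMap_tmul, Algebra.TensorProduct.tmul_mul_tmul,
        ← Algebra.smul_def, ← Algebra.smul_def, σ.map_smul]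

theorem bc_antimul (σ : LamInv R A lam) (x y : S' ⊗[S] A) :
    σ.bc S lam S' (x * y) = σ.bc S lam S' y * σ.bc S lam S' x :=
  baseChange_antimul (K := S') (σ.linS S lam) (fun a b => σ.map_mul a b) x y

theorem bc_invol (σ : LamInv R A lam) (x : S' ⊗[S] A) :
    σ.bc S lam S' (σ.bc S lam S' x) = x :=
  baseChange_invol (K := S') (σ.linS S lam) (fun a => σ.invol a) x

/-- transport of the base-changed involution along an isomorphism -/
noncomputable def transportInv (σ : LamInv R A lam) {M : Type*} [Ring M] [Algebra (S' ⊗[S] R) M]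
    (f : S' ⊗[S] A ≃ₐ[S' ⊗[S] R] M) : LamInv (S' ⊗[S] R) M (bcΛ lam S') where
  toFun Z := f (σ.bc S lam S' (f.symm Z))
  map_add' Z W := by rw [map_add, map_add, map_add]
  map_mul' Z W := by rw [map_mul, bc_antimul, map_mul]
  map_smul' u Z := by rw [map_smul, bc_smul_RT, map_smul]
  invol' Z := by rw [f.symm_apply_apply, bc_invol, f.apply_symm_apply]

theorem transportInv_apply (σ : LamInv R A lam) {M : Type*} [Ring M] [Algebra (S' ⊗[S] R) M]
    (f : S' ⊗[S] A ≃ₐ[S' ⊗[S] R] M) (x : S' ⊗[S] A) :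
    transportInv lam S' σ f (f x) = f (σ.bc S lam S' x) := by
  show f (σ.bc S lam S' (f.symm (f x))) = _
  rw [f.symm_apply_apply]

end Semilinear

section Main
variable (S : Type u) [CommRing S] (R : Type v) [CommRing R] [Algebra S R]
  (X : Type w) [Ring X] [Algebra S X] [Algebra R X] [IsScalarTower S R X] [IsAzumaya R X]

attribute [local instance] algRT

/-- in the quadratic étale case every `lam`-involution of an Azumaya algebra of degree `n` is
étale-locally on `S` the `lam`-transpose of the matrix algebra -/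
theorem locIsoEt_transpose_of_quadEtale (lam : R ≃ₐ[S] R) (hlam : ∀ r, lam (lam r) = r)
    (hfix : RInv.IsFixedRing S R lam.toRingEquiv) (hq : RInv.IsQuadEtale S R)
    (n : ℕ) (hn : 0 < n) (hrk : ∀ p : PrimeSpectrum R, Module.rankAtStalk X p = n ^ 2)
    (σ : LamInv R X lam) :
    LocIsoEt S lam σ ((LamInv.self lam hlam).matrix (Fin n)) := by
  classical
  have hfix' : ∀ r, lam r = r → r ∈ Set.range (algebraMap S R) := fun r hr => (hfix.2 r).1 hr
  obtain ⟨S₁, a1, a2, a3, a4, ϑ₁, hϑ₁⟩ := exists_cover_split S R X n fun p =>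
    exists_local_split S R X lam hlam hfix.1 hfix' n hn hrk p
  obtain ⟨S₂, b1, b2, b3, b4, e₂, he₂, hsw₂⟩ := exists_cover_swap_idem S R lam hlam hfix hq
  let S' := S₁ ⊗[S] S₂
  haveI hff : Module.FaithfullyFlat S S' := Module.FaithfullyFlat.trans S S₁ S'
  let ι₁ : S₁ →ₐ[S] S' := Algebra.TensorProduct.includeLeft
  let ι₂ : S₂ →ₐ[S] S' := Algebra.TensorProduct.includeRight
  -- the splitting over S'
  let ϑ : X →+* Matrix (Fin n) (Fin n) (S' ⊗[S] R) :=
    (Algebra.TensorProduct.map ι₁ (AlgHom.id S R)).toRingHom.mapMatrix.comp ϑ₁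
  have hϑ : ∀ r : R, ϑ (algebraMap R X r) = Matrix.scalar (Fin n) ((1 : S') ⊗ₜ[S] r) := by
    intro r
    show (Algebra.TensorProduct.map ι₁ (AlgHom.id S R)).toRingHom.mapMatrix
      (ϑ₁ (algebraMap R X r)) = _
    rw [hϑ₁]
    ext j k
    simp only [RingHom.mapMatrix_apply, Matrix.map_apply, Matrix.scalar_apply,
      Matrix.diagonal_apply]
    split_ifs
    · simp
    · simp
  -- the idempotent over S'
  let e : S' ⊗[S] R := Algebra.TensorProduct.map ι₂ (AlgHom.id S R) e₂
  have he : IsIdempotentElem e := he₂.map _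
  have hnat : ∀ z : S₂ ⊗[S] R, bcΛ lam S' (Algebra.TensorProduct.map ι₂ (AlgHom.id S R) z) =
      Algebra.TensorProduct.map ι₂ (AlgHom.id S R) (bcΛ lam S₂ z) := by
    intro z
    induction z using TensorProduct.induction_on with
    | zero => simp
    | add a b ha hb => simp only [map_add, ha, hb]
    | tmul s r => simp [bcΛ]
  have hsw : bcΛ lam S' e = 1 - e := by
    show bcΛ lam S' (Algebra.TensorProduct.map ι₂ (AlgHom.id S R) e₂) = _
    rw [hnat]
    show Algebra.TensorProduct.map ι₂ (AlgHom.id S R)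
      (Algebra.TensorProduct.map (AlgHom.id S₂ S₂) (lam : R →ₐ[S] R) e₂) = _
    rw [hsw₂, map_sub, map_one]
  -- the two splittings
  obtain ⟨fX, hfX⟩ := exists_equivRT_of_split S R X n hn hrk S' ϑ hϑ
  haveI : Nonempty (Fin n) := ⟨⟨0, hn⟩⟩
  haveI hAzY : IsAzumaya R (Matrix (Fin n) (Fin n) R) := IsAzumaya.matrix R (Fin n)
  have hrkY : ∀ p : PrimeSpectrum R,
      Module.rankAtStalk (Matrix (Fin n) (Fin n) R) p = n ^ 2 := by
    intro p
    haveI : Nontrivial R := p.nontrivial
    have := congrFun (Module.rankAtStalk_eq_finrank_of_free (R := R)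
      (M := Matrix (Fin n) (Fin n) R)) p
    rw [this, Module.finrank_matrix]
    simp [sq]
  let incl : R →ₐ[S] S' ⊗[S] R := Algebra.TensorProduct.includeRight
  let ϑY : Matrix (Fin n) (Fin n) R →+* Matrix (Fin n) (Fin n) (S' ⊗[S] R) :=
    incl.toRingHom.mapMatrix
  have hϑY : ∀ r : R, ϑY (algebraMap R (Matrix (Fin n) (Fin n) R) r) =
      Matrix.scalar (Fin n) ((1 : S') ⊗ₜ[S] r) := by
    intro r
    ext j k
    simp only [ϑY, RingHom.mapMatrix_apply, Matrix.map_apply, Matrix.scalar_apply,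
      Matrix.diagonal_apply, Matrix.algebraMap_matrix_apply]
    split_ifs
    · rfl
    · exact map_zero _
  obtain ⟨fY, hfY⟩ := exists_equivRT_of_split S R (Matrix (Fin n) (Fin n) R) n hn hrkY S' ϑY hϑY
  -- the involutions on the matrix algebra
  have hΛΛ : ∀ u : S' ⊗[S] R, bcΛ lam S' (bcΛ lam S' u) = u := bcΛ_invol lam S' hlam
  let τ : LamInv R (Matrix (Fin n) (Fin n) R) lam := (LamInv.self lam hlam).matrix (Fin n)
  let τ' : LamInv (S' ⊗[S] R) (Matrix (Fin n) (Fin n) (S' ⊗[S] R)) (bcΛ lam S') :=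
    LamInv.transpose (bcΛ lam S') (Fin n) hΛΛ
  let t' : LamInv (S' ⊗[S] R) (Matrix (Fin n) (Fin n) (S' ⊗[S] R)) (bcΛ lam S') :=
    transportInv lam S' σ fX
  obtain ⟨g, hg⟩ := exists_algEquiv_intertwine hΛΛ e he hsw t' τ'
  -- compatibility of fY with the transposes
  have hτY : ∀ z : S' ⊗[S] Matrix (Fin n) (Fin n) R, fY (τ.bc S lam S' z) = τ' (fY z) := by
    intro z
    induction z using TensorProduct.induction_on with
    | zero => simp
    | add a b ha hb => rw [map_add, map_add, ha, hb, map_add, τ'.map_add]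
    | tmul s M =>
      rw [LamInv.bc_tmul, hfY, hfY, τ'.map_mul]
      have h1 : τ' (algebraMap S' (Matrix (Fin n) (Fin n) (S' ⊗[S] R)) s) =
          algebraMap S' (Matrix (Fin n) (Fin n) (S' ⊗[S] R)) s := by
        rw [IsScalarTower.algebraMap_apply S' (S' ⊗[S] R) (Matrix (Fin n) (Fin n) (S' ⊗[S] R)),
          τ'.map_algebraMap, AlgHom.commutes]
      have h2 : τ' (ϑY M) = ϑY (τ M) := by
        ext i j
        show bcΛ lam S' (incl (M j i)) = incl (lam (M j i))
        show bcΛ lam S' ((1 : S') ⊗ₜ[S] M j i) = (1 : S') ⊗ₜ[S] lam (M j i)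
        rw [bcΛ_tmul]
      rw [h1, h2]
      exact Algebra.commutes s (ϑY (τ M))
  -- assemble
  let F : S' ⊗[S] X ≃ₐ[S' ⊗[S] R] S' ⊗[S] Matrix (Fin n) (Fin n) R :=
    fX.trans (g.trans fY.symm)
  have hF : ∀ x : S' ⊗[S] X, F x = fY.symm (g (fX x)) := fun _ => rfl
  haveI tw1 : IsScalarTower S' (S' ⊗[S] R) (S' ⊗[S] X) := IsScalarTower.of_algebraMap_eq (fun s => by
    show algebraMap S' (S' ⊗[S] X) s = baseMap S R X S' (algebraMap S' (S' ⊗[S] R) s)
    exact ((baseMap S R X S').commutes s).symm)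
  haveI tw2 : IsScalarTower S' (S' ⊗[S] R) (S' ⊗[S] Matrix (Fin n) (Fin n) R) :=
    IsScalarTower.of_algebraMap_eq (fun s => by
      show algebraMap S' (S' ⊗[S] Matrix (Fin n) (Fin n) R) s =
        baseMap S R (Matrix (Fin n) (Fin n) R) S' (algebraMap S' (S' ⊗[S] R) s)
      exact ((baseMap S R (Matrix (Fin n) (Fin n) R) S').commutes s).symm)
  refine ⟨S', inferInstance, inferInstance, inferInstance, hff, F.restrictScalars S', ?_, ?_⟩
  · intro r x
    show F (((1 : S') ⊗ₜ[S] algebraMap R X r) * x) = _ * F x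
    have h1 : ((1 : S') ⊗ₜ[S] algebraMap R X r : S' ⊗[S] X) =
        algebraMap (S' ⊗[S] R) (S' ⊗[S] X) ((1 : S') ⊗ₜ[S] r) := by
      rw [algebraMap_RT_apply, baseMap_tmul]
    have h2 : ((1 : S') ⊗ₜ[S] algebraMap R (Matrix (Fin n) (Fin n) R) r :
        S' ⊗[S] Matrix (Fin n) (Fin n) R) =
        algebraMap (S' ⊗[S] R) (S' ⊗[S] Matrix (Fin n) (Fin n) R) ((1 : S') ⊗ₜ[S] r) := by
      rw [algebraMap_RT_apply, baseMap_tmul]
    rw [h1, h2, map_mul, AlgEquiv.commutes]
  · intro x
    show F (σ.bc S lam S' x) = τ.bc S lam S' (F x)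
    rw [hF, hF, ← transportInv_apply lam S' σ fX x]
    show fY.symm (g (t' (fX x))) = _
    rw [hg]
    apply fY.injective
    rw [fY.apply_symm_apply, hτY, fY.apply_symm_apply]

end Main

end Groth.Agent.Lib.Helper1.GeoNbhd
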