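import Mathlib

/-!
# Finiteness of the set of geometric points of an integral algebra over a prime

If `R → S` is integral, `p` is a prime of `R` with finitely many primes of `S` above it, each with
finite separable residue degree, and `Ω` is a field with `ker (R → Ω) = p`, then there are only
finitely many `R`-algebra maps `S → Ω`.
-/

set_option autoImplicit false
set_option linter.style.haveILetI false
open Polynomial TensorProduct

namespace Groth.Agent.Lib.Helper1.GeoNbhd

universe u v w

theorem isAlgebraic_residueField_map {A : Type*} {B : Type*} [CommRing A] [CommRing B]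
    [Algebra A B] [Algebra.IsIntegral A B] (P : Ideal A) [P.IsPrime] (Q : Ideal B) [Q.IsPrime]
    (h : P = Q.comap (algebraMap A B)) :
    letI := (Ideal.ResidueField.map P Q (algebraMap A B) h).toAlgebra
    Algebra.IsAlgebraic P.ResidueField Q.ResidueField := by
  letI := (Ideal.ResidueField.map P Q (algebraMap A B) h).toAlgebra
  haveI : IsScalarTower A P.ResidueField Q.ResidueField := by
    refine .of_algebraMap_eq (fun a => ?_)
    rw [RingHom.algebraMap_toAlgebra, Ideal.ResidueField.map_algebraMap]
    rfl
  have key : ∀ b : B, IsIntegral P.ResidueField (algebraMap B Q.ResidueField b) := by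
    intro b
    have h1 : IsIntegral A b := Algebra.IsIntegral.isIntegral b
    have h2 : IsIntegral A (algebraMap B Q.ResidueField b) := h1.algebraMap
    exact h2.tower_top
  refine ⟨fun x => ?_⟩
  obtain ⟨a, b, hb, rfl⟩ := IsFractionRing.div_surjective (A := B ⧸ Q) x
  obtain ⟨a, rfl⟩ := Ideal.Quotient.mk_surjective a
  obtain ⟨b, rfl⟩ := Ideal.Quotient.mk_surjective b
  rw [Ideal.algebraMap_quotient_residueField_mk, Ideal.algebraMap_quotient_residueField_mk]
  rw [div_eq_mul_inv]
  exact ((key a).mul (key b).inv).isAlgebraic

/-- finitely many embeddings when the separable closure is finite -/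
theorem finite_algHom_of_finite_separableClosure (F : Type u) (E : Type v) (Ω : Type w)
    [Field F] [Field E] [Field Ω] [Algebra F E] [Algebra F Ω] [Algebra.IsAlgebraic F E]
    [Module.Finite F (separableClosure F E)] : Finite (E →ₐ[F] Ω) :=
  Finite.of_injective _
    (IsPurelyInseparable.injective_restrictDomain (separableClosure F E) E F Ω)

section
variable {R : Type u} [CommRing R] {S : Type v} [CommRing S] [Algebra R S]
  [Algebra.IsIntegral R S] (p : Ideal R) [p.IsPrime] {Ω : Type w} [Field Ω] [Algebra R Ω]

theorem finite_algHom_of_finite_primesOver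
    (hΩ : RingHom.ker (algebraMap R Ω) = p)
    (hfin : {q : PrimeSpectrum S | q.asIdeal.comap (algebraMap R S) = p}.Finite)
    (hsep : ∀ (q : PrimeSpectrum S) (hq : q.asIdeal.comap (algebraMap R S) = p),
      letI := (Ideal.ResidueField.map p q.asIdeal (algebraMap R S) hq.symm).toAlgebra
      Module.Finite p.ResidueField (separableClosure p.ResidueField q.asIdeal.ResidueField)) :
    Finite (S →ₐ[R] Ω) := by
  classical
  have hunit : p.primeCompl ≤ (IsUnit.submonoid Ω).comap (algebraMap R Ω) := by
    intro x hx
    refine isUnit_iff_ne_zero.mpr (fun h0 => hx ?_)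
    rw [← hΩ]
    exact h0
  letI algFΩ : Algebra p.ResidueField Ω :=
    (Ideal.ResidueField.lift p (algebraMap R Ω) (hΩ ▸ le_rfl) hunit).toAlgebra
  -- the fibre over a prime is finite
  have hfib : ∀ q ∈ {q : PrimeSpectrum S | q.asIdeal.comap (algebraMap R S) = p},
      {χ : S →ₐ[R] Ω | RingHom.ker χ.toRingHom = q.asIdeal}.Finite := by
    intro q hq
    have hq' : q.asIdeal.comap (algebraMap R S) = p := hq
    letI algFE : Algebra p.ResidueField q.asIdeal.ResidueField :=
      (Ideal.ResidueField.map p q.asIdeal (algebraMap R S) hq'.symm).toAlgebra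
    haveI : Algebra.IsAlgebraic p.ResidueField q.asIdeal.ResidueField :=
      isAlgebraic_residueField_map p q.asIdeal hq'.symm
    haveI : Module.Finite p.ResidueField
        (separableClosure p.ResidueField q.asIdeal.ResidueField) := hsep q hq'
    haveI : Finite (q.asIdeal.ResidueField →ₐ[p.ResidueField] Ω) :=
      finite_algHom_of_finite_separableClosure _ _ _
    rw [← Set.finite_coe_iff]
    have hu : ∀ χ : {χ : S →ₐ[R] Ω | RingHom.ker χ.toRingHom = q.asIdeal},
        q.asIdeal.primeCompl ≤ (IsUnit.submonoid Ω).comap χ.1.toRingHom := by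
      intro χ x hx
      refine isUnit_iff_ne_zero.mpr (fun h0 => hx ?_)
      rw [← χ.2]
      exact h0
    have hle : ∀ χ : {χ : S →ₐ[R] Ω | RingHom.ker χ.toRingHom = q.asIdeal},
        q.asIdeal ≤ RingHom.ker χ.1.toRingHom := fun χ => le_of_eq χ.2.symm
    let f : {χ : S →ₐ[R] Ω | RingHom.ker χ.toRingHom = q.asIdeal} →
        (q.asIdeal.ResidueField →ₐ[p.ResidueField] Ω) := fun χ =>
      { toRingHom := Ideal.ResidueField.lift q.asIdeal χ.1.toRingHom (hle χ) (hu χ)
        commutes' := by
          intro r
          have : (Ideal.ResidueField.lift q.asIdeal χ.1.toRingHom (hle χ) (hu χ)).comp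
              (algebraMap p.ResidueField q.asIdeal.ResidueField) =
              algebraMap p.ResidueField Ω := by
            apply Ideal.ResidueField.ringHom_ext
            ext r
            simp only [RingHom.comp_apply]
            rw [RingHom.algebraMap_toAlgebra, Ideal.ResidueField.map_algebraMap,
              Ideal.ResidueField.lift_algebraMap, RingHom.algebraMap_toAlgebra,
              Ideal.ResidueField.lift_algebraMap]
            exact χ.1.commutes r
          exact congrFun (congrArg DFunLike.coe this) r }
    refine Finite.of_injective f (fun χ₁ χ₂ h12 => ?_)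
    apply Subtype.ext
    apply AlgHom.ext
    intro s
    have h1 : f χ₁ (algebraMap S q.asIdeal.ResidueField s) = χ₁.1 s :=
      Ideal.ResidueField.lift_algebraMap _ _ _ (hu χ₁) s
    have h2 : f χ₂ (algebraMap S q.asIdeal.ResidueField s) = χ₂.1 s :=
      Ideal.ResidueField.lift_algebraMap _ _ _ (hu χ₂) s
    rw [← h1, ← h2, h12]
  rw [← Set.finite_univ_iff]
  refine (hfin.biUnion hfib).subset (fun χ _ => ?_)
  haveI : (RingHom.ker χ.toRingHom).IsPrime := RingHom.ker_isPrime _
  refine Set.mem_biUnion (x := ⟨RingHom.ker χ.toRingHom, inferInstance⟩) ?_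
    (show RingHom.ker χ.toRingHom = _ from rfl)
  show (RingHom.ker χ.toRingHom).comap (algebraMap R S) = p
  rw [← hΩ]
  ext r
  rw [Ideal.mem_comap, RingHom.mem_ker, RingHom.mem_ker]
  show χ (algebraMap R S r) = 0 ↔ _
  rw [χ.commutes]

end

end Groth.Agent.Lib.Helper1.GeoNbhd
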