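import Mathlib
import Groth.Agent.Lib.Helper1.GeoNbhd.GeoTools

/-!
# Geometric points of `T ⊗ S` over a geometric point of `T`

* every ring hom `T ⊗ S → Ω` restricting to `ψ` on `T` is `geoEval ψ χ`
* every prime of an integral `T`-algebra lying over `ker ψ` is the kernel of a ring hom to `Ω`
  extending `ψ`
-/

set_option autoImplicit false
set_option linter.style.haveILetI false
open Polynomial TensorProduct

namespace Groth.Agent.Lib.Helper1.GeoNbhd

universe u v w x y

section Pts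
variable {R : Type u} [CommRing R] {S : Type v} [CommRing S] [Algebra R S]
  {Ω : Type y} [Field Ω] [Algebra R Ω] {T : Type w} [CommRing T] [Algebra R T]

/-- a ring hom `T ⊗ S → Ω` restricting to `ψ` on `T` is `geoEval ψ χ` -/
theorem exists_eq_geoEval (ψ : T →ₐ[R] Ω) (ρ : T ⊗[R] S →+* Ω)
    (hρ : ∀ t : T, ρ (algebraMap T (T ⊗[R] S) t) = ψ t) :
    ∃ χ : S →ₐ[R] Ω, ∀ z, ρ z = geoEval ψ χ z := by
  let χ : S →ₐ[R] Ω :=
    { toRingHom := ρ.comp (Algebra.TensorProduct.includeRight : S →ₐ[R] T ⊗[R] S).toRingHom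
      commutes' := fun s => by
        show ρ ((Algebra.TensorProduct.includeRight : S →ₐ[R] T ⊗[R] S) (algebraMap R S s)) = _
        rw [AlgHom.commutes, IsScalarTower.algebraMap_apply R T (T ⊗[R] S), hρ, AlgHom.commutes] }
  refine ⟨χ, fun z => ?_⟩
  induction z using TensorProduct.induction_on with
  | zero => simp
  | add a b ha hb => rw [map_add, map_add, ha, hb]
  | tmul l b =>
    rw [geoEval_tmul]
    have h1 : (l ⊗ₜ[R] b : T ⊗[R] S) = algebraMap T (T ⊗[R] S) l * (1 : T) ⊗ₜ[R] b := by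
      rw [Algebra.TensorProduct.algebraMap_apply, Algebra.TensorProduct.tmul_mul_tmul]
      simp
    rw [h1, map_mul, hρ]
    rfl

end Pts

section Lift
variable {T : Type w} [CommRing T] {U : Type x} [CommRing U] [Algebra T U]
  [Algebra.IsIntegral T U] {Ω : Type y} [Field Ω] [IsAlgClosed Ω]

/-- a prime of an integral algebra lying over the kernel of a geometric point is the kernel
of a geometric point extending it -/
theorem exists_ringHom_of_comap_eq (ψ : T →+* Ω) (Q : Ideal U) [hQ : Q.IsPrime]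
    (hQψ : Q.comap (algebraMap T U) = RingHom.ker ψ) :
    ∃ ρ : U →+* Ω, RingHom.ker ρ = Q ∧ ∀ t : T, ρ (algebraMap T U t) = ψ t := by
  classical
  set m : Ideal T := RingHom.ker ψ with hm
  haveI : m.IsPrime := RingHom.ker_isPrime ψ
  haveI : Q.LiesOver m := ⟨hQψ.symm⟩
  let ψbar : T ⧸ m →+* Ω := Ideal.Quotient.lift m ψ (fun a ha => ha)
  have hψbar : Function.Injective ψbar := by
    rw [injective_iff_map_eq_zero]
    intro a ha
    obtain ⟨a, rfl⟩ := Ideal.Quotient.mk_surjective a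
    rw [Ideal.Quotient.eq_zero_iff_mem]
    exact ha
  letI : Algebra (T ⧸ m) Ω := ψbar.toAlgebra
  haveI : Algebra.IsIntegral (T ⧸ m) (U ⧸ Q) := inferInstance
  haveI : Module.IsTorsionFree (T ⧸ m) Ω := by
    have : FaithfulSMul (T ⧸ m) Ω := (faithfulSMul_iff_algebraMap_injective _ _).mpr hψbar
    infer_instance
  haveI : Module.IsTorsionFree (T ⧸ m) (U ⧸ Q) := by
    have : FaithfulSMul (T ⧸ m) (U ⧸ Q) := inferInstance
    infer_instance
  let σ : (U ⧸ Q) →ₐ[T ⧸ m] Ω := IsAlgClosed.lift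
  have hσ : Function.Injective σ := by
    rw [injective_iff_map_eq_zero]
    have hker : RingHom.ker σ.toRingHom = ⊥ := by
      apply Ideal.eq_bot_of_comap_eq_bot (R := T ⧸ m)
      rw [eq_bot_iff]
      intro a ha
      rw [Ideal.mem_comap, RingHom.mem_ker] at ha
      have h2 : σ.toRingHom (algebraMap (T ⧸ m) (U ⧸ Q) a) = ψbar a := σ.commutes a
      rw [h2] at ha
      exact (map_eq_zero_iff ψbar hψbar).mp ha
    intro a ha
    have : a ∈ RingHom.ker σ.toRingHom := ha
    rw [hker] at this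
    exact this
  let ρ : U →+* Ω := σ.toRingHom.comp (Ideal.Quotient.mk Q)
  refine ⟨ρ, ?_, ?_⟩
  · ext z
    rw [RingHom.mem_ker]
    show σ (Ideal.Quotient.mk Q z) = 0 ↔ z ∈ Q
    rw [map_eq_zero_iff σ hσ, Ideal.Quotient.eq_zero_iff_mem]
  · intro l
    show σ (Ideal.Quotient.mk Q (algebraMap T U l)) = ψ l
    have h1 : Ideal.Quotient.mk Q (algebraMap T U l) =
        algebraMap (T ⧸ m) (U ⧸ Q) (Ideal.Quotient.mk m l) := rfl
    rw [h1, σ.commutes]
    rfl

end Lift

end Groth.Agent.Lib.Helper1.GeoNbhd
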