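import Mathlib
import Groth.Agent.Lib.Helper1.GeoNbhd.SplitPts

/-!
# Separating finitely many geometric points by orthogonal idempotents on an étale neighbourhood
-/

set_option autoImplicit false
set_option linter.style.haveILetI false
open Polynomial TensorProduct

namespace Groth.Agent.Lib.Helper1.GeoNbhd

universe u v w x y

section Ortho
variable {B : Type*} [CommRing B] {Ω : Type*} [CommRing Ω] {X : Type*} [Fintype X]
  [DecidableEq X]

theorem isIdempotentElem_prod {ι : Type*} (s : Finset ι) (f : ι → B)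
    (h : ∀ i ∈ s, IsIdempotentElem (f i)) : IsIdempotentElem (∏ i ∈ s, f i) :=
  Finset.prod_induction f IsIdempotentElem (fun _ _ ha hb => ha.mul hb) IsIdempotentElem.one h

/-- from pairwise separating idempotents to orthogonal idempotents with `δ`-values -/
theorem exists_orthogonal_of_sep (G : X → B →+* Ω) (c : X → X → B)
    (hc : ∀ a b, a ≠ b → IsIdempotentElem (c a b) ∧ G a (c a b) = 1 ∧ G b (c a b) = 0) :
    ∃ e : X → B, OrthogonalIdempotents e ∧ ∀ χ a, G χ (e a) = if χ = a then 1 else 0 := by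
  obtain ⟨e', he'def⟩ : ∃ e' : X → B, ∀ a, e' a = ∏ b ∈ Finset.univ.erase a, c a b :=
    ⟨_, fun _ => rfl⟩
  have he'idem : ∀ a, IsIdempotentElem (e' a) := fun a => by
    rw [he'def]
    exact isIdempotentElem_prod _ _ (fun b hb => (hc a b (Finset.ne_of_mem_erase hb).symm).1)
  have he'val : ∀ χ a, G χ (e' a) = if χ = a then 1 else 0 := by
    intro χ a
    rw [he'def, map_prod]
    split_ifs with h
    · subst h
      exact Finset.prod_eq_one (fun b hb => (hc χ b (Finset.ne_of_mem_erase hb).symm).2.1)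
    · exact Finset.prod_eq_zero (i := χ) (Finset.mem_erase.mpr ⟨h, Finset.mem_univ _⟩)
        (hc a χ (Ne.symm h)).2.2
  clear he'def
  obtain ⟨P, hP⟩ : ∃ P : X → B, ∀ a, P a = ∏ b ∈ Finset.univ.erase a, (1 - e' b) :=
    ⟨_, fun _ => rfl⟩
  refine ⟨fun a => e' a * P a, ⟨fun a => ?_, fun a b hab => ?_⟩, fun χ a => ?_⟩
  · refine (he'idem a).mul ?_
    rw [hP]
    exact isIdempotentElem_prod _ _ (fun b _ => (he'idem b).one_sub)
  · show e' a * P a * (e' b * P b) = 0
    have hb : b ∈ Finset.univ.erase a := Finset.mem_erase.mpr ⟨hab.symm, Finset.mem_univ _⟩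
    have h1 : P a = (1 - e' b) * ∏ x ∈ (Finset.univ.erase a).erase b, (1 - e' x) := by
      rw [hP]
      exact (Finset.mul_prod_erase _ _ hb).symm
    have h2 : (1 - e' b) * e' b = 0 := by
      rw [sub_mul, one_mul, (he'idem b).eq, sub_self]
    rw [h1]
    calc e' a * ((1 - e' b) * ∏ x ∈ (Finset.univ.erase a).erase b, (1 - e' x)) * (e' b * P b)
        = ((1 - e' b) * e' b) * (e' a * (∏ x ∈ (Finset.univ.erase a).erase b, (1 - e' x)) *
          P b) := by ring
      _ = 0 := by rw [h2, zero_mul]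
  · show G χ (e' a * P a) = _
    rw [map_mul, he'val, hP, map_prod]
    split_ifs with h
    · subst h
      rw [one_mul]
      refine Finset.prod_eq_one (fun b hb => ?_)
      rw [map_sub, map_one, he'val, if_neg (Finset.ne_of_mem_erase hb).symm, sub_zero]
    · rw [zero_mul]

end Ortho

section Common
variable (R : Type u) [CommRing R] (S : Type v) [CommRing S] [Algebra R S]
  [Algebra.IsIntegral R S] (Ω : Type y) [Field Ω] [Algebra R Ω]

/-- a common étale neighbourhood on which finitely many pairs of points are separated -/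
theorem exists_common_sep (s : Finset ((S →ₐ[R] Ω) × (S →ₐ[R] Ω))) (hs : ∀ a ∈ s, a.1 ≠ a.2) :
    ∃ (T : Type u) (_ : CommRing T) (_ : Algebra R T) (_ : Algebra.Etale R T) (ψ : T →ₐ[R] Ω),
      ∀ a ∈ s, ∃ c : T ⊗[R] S, IsIdempotentElem c ∧ geoEval ψ a.1 c = 1 ∧ geoEval ψ a.2 c = 0 := by
  classical
  induction s using Finset.induction_on with
  | empty =>
    exact ⟨R, inferInstance, inferInstance, inferInstance, Algebra.ofId R Ω, by simp⟩
  | insert a s has ih =>
    obtain ⟨T₁, _, _, _, ψ₁, h₁⟩ := ih (fun b hb => hs b (Finset.mem_insert_of_mem hb))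
    have hne : a.1 ≠ a.2 := hs a (Finset.mem_insert_self _ _)
    obtain ⟨r, hr⟩ : ∃ r : S, a.1 r ≠ a.2 r := by
      by_contra hcon
      push Not at hcon
      exact hne (AlgHom.ext hcon)
    obtain ⟨T₂, _, _, _, ψ₂, c₂, hc₂, hc₂1, hc₂2⟩ :=
      exists_etale_sep R S Ω a.1 a.2 r (Algebra.IsIntegral.isIntegral r) hr
    refine ⟨T₁ ⊗[R] T₂, inferInstance, inferInstance, inferInstance, prodPt ψ₁ ψ₂, ?_⟩
    intro b hb
    rcases Finset.mem_insert.mp hb with rfl | hb
    · refine ⟨Algebra.TensorProduct.map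
        (Algebra.TensorProduct.includeRight : T₂ →ₐ[R] T₁ ⊗[R] T₂) (AlgHom.id R S) c₂,
        isIdempotentElem_map _ hc₂, ?_, ?_⟩
      · rw [geoEval_map, prodPt_comp_right, hc₂1]
      · rw [geoEval_map, prodPt_comp_right, hc₂2]
    · obtain ⟨c, hc, hc1, hc2⟩ := h₁ b hb
      refine ⟨Algebra.TensorProduct.map
        (Algebra.TensorProduct.includeLeft : T₁ →ₐ[R] T₁ ⊗[R] T₂) (AlgHom.id R S) c,
        isIdempotentElem_map _ hc, ?_, ?_⟩
      · rw [geoEval_map, prodPt_comp_left, hc1]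
      · rw [geoEval_map, prodPt_comp_left, hc2]

/-- orthogonal idempotents with `δ`-values at all geometric points, on an étale neighbourhood -/
theorem exists_etale_orthogonal [Fintype (S →ₐ[R] Ω)] [DecidableEq (S →ₐ[R] Ω)] :
    ∃ (T : Type u) (_ : CommRing T) (_ : Algebra R T) (_ : Algebra.Etale R T) (ψ : T →ₐ[R] Ω)
      (e : (S →ₐ[R] Ω) → T ⊗[R] S), OrthogonalIdempotents e ∧
        ∀ χ a, geoEval ψ χ (e a) = if χ = a then 1 else 0 := by
  obtain ⟨T, _, _, _, ψ, h⟩ := exists_common_sep R S Ω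
    (Finset.univ.filter (fun a : (S →ₐ[R] Ω) × (S →ₐ[R] Ω) => a.1 ≠ a.2))
    (fun a ha => (Finset.mem_filter.mp ha).2)
  have h' : ∀ a b : S →ₐ[R] Ω, ∃ c : T ⊗[R] S, a ≠ b →
      IsIdempotentElem c ∧ geoEval ψ a c = 1 ∧ geoEval ψ b c = 0 := by
    intro a b
    by_cases hab : a = b
    · exact ⟨0, fun h => absurd hab h⟩
    · obtain ⟨c, hc⟩ := h (a, b) (Finset.mem_filter.mpr ⟨Finset.mem_univ _, hab⟩)
      exact ⟨c, fun _ => hc⟩
  choose c hc using h'
  obtain ⟨e, he, hval⟩ := exists_orthogonal_of_sep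
    (fun χ : S →ₐ[R] Ω => (geoEval ψ χ : T ⊗[R] S →ₐ[R] Ω).toRingHom) c
    (fun a b hab => hc a b hab)
  exact ⟨T, inferInstance, inferInstance, inferInstance, ψ, e, he, hval⟩

end Common

section Complete
variable (R : Type u) [CommRing R] (S : Type v) [CommRing S] [Algebra R S]
  [Algebra.IsIntegral R S] (Ω : Type y) [Field Ω] [IsAlgClosed Ω] [Algebra R Ω]

/-- complete orthogonal idempotents with `δ`-values at all geometric points, on an étale
neighbourhood -/
theorem exists_etale_complete [Fintype (S →ₐ[R] Ω)] [DecidableEq (S →ₐ[R] Ω)] :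
    ∃ (T : Type u) (_ : CommRing T) (_ : Algebra R T) (_ : Algebra.Etale R T) (ψ : T →ₐ[R] Ω)
      (e : (S →ₐ[R] Ω) → T ⊗[R] S), CompleteOrthogonalIdempotents e ∧
        ∀ χ a, geoEval ψ χ (e a) = if χ = a then 1 else 0 := by
  obtain ⟨T, _, _, _, ψ, e, he, hval⟩ := exists_etale_orthogonal R S Ω
  obtain ⟨e0, he0⟩ : ∃ e0 : T ⊗[R] S, e0 = 1 - ∑ a, e a := ⟨_, rfl⟩
  have he0idem : IsIdempotentElem e0 := by
    rw [he0]
    exact he.isIdempotentElem_sum.one_sub
  have hval0 : ∀ χ : S →ₐ[R] Ω, geoEval ψ χ e0 = 0 := by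
    intro χ
    rw [he0, map_sub, map_one, map_sum]
    simp only [hval]
    rw [Finset.sum_ite_eq Finset.univ χ (fun _ => (1 : Ω)), if_pos (Finset.mem_univ _), sub_self]
  -- a function not vanishing at the point and killing the complement
  obtain ⟨f, hf, hfe⟩ : ∃ f : T, ψ f ≠ 0 ∧ algebraMap T (T ⊗[R] S) f * e0 = 0 := by
    by_contra hcon
    push Not at hcon
    have hle : (Ideal.span {1 - e0}).comap (algebraMap T (T ⊗[R] S)) ≤ RingHom.ker ψ.toRingHom := by
      intro f hfmem
      rw [Ideal.mem_comap, Ideal.mem_span_singleton'] at hfmem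
      obtain ⟨y, hy⟩ := hfmem
      by_contra hne
      refine hcon f hne ?_
      rw [← hy, mul_assoc, sub_mul, one_mul, he0idem.eq, sub_self, mul_zero]
    haveI : (RingHom.ker ψ.toRingHom).IsPrime := RingHom.ker_isPrime _
    obtain ⟨Q, hQ1, hQprime, hQcomap⟩ := Ideal.exists_ideal_over_prime_of_isIntegral
      (RingHom.ker ψ.toRingHom) (Ideal.span {1 - e0}) hle
    obtain ⟨ρ, hρker, hρT⟩ := exists_ringHom_of_comap_eq ψ.toRingHom Q hQcomap
    obtain ⟨χ, hχ⟩ := exists_eq_geoEval ψ ρ hρT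
    have h1 : ρ (1 - e0) = 0 := by
      have : (1 - e0) ∈ RingHom.ker ρ := by
        rw [hρker]
        exact hQ1 (Ideal.subset_span rfl)
      exact this
    have h2 : ρ e0 = 0 := by rw [hχ, hval0]
    have h3 : ρ 1 = 0 := by
      have : (1 : T ⊗[R] S) = (1 - e0) + e0 := by ring
      rw [this, map_add, h1, h2, add_zero]
    rw [map_one] at h3
    exact one_ne_zero h3
  -- localize
  let T' := Localization.Away f
  haveI : Algebra.Etale T T' := Algebra.Etale.of_isLocalizationAway f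
  haveI : Algebra.Etale R T' := Algebra.Etale.comp R T T'
  let ψ' : T' →ₐ[R] Ω := IsLocalization.liftAlgHom (M := Submonoid.powers f) (f := ψ) (fun y => by
    obtain ⟨n, hn⟩ := y.2
    rw [← hn, map_pow]
    exact (isUnit_iff_ne_zero.mpr hf).pow n)
  have hψ' : ψ'.comp (IsScalarTower.toAlgHom R T T') = ψ := by
    ext t
    simp [ψ', IsLocalization.liftAlgHom]
  let φ : T ⊗[R] S →ₐ[R] T' ⊗[R] S :=
    Algebra.TensorProduct.map (IsScalarTower.toAlgHom R T T') (AlgHom.id R S)
  have hφalg : ∀ t : T, φ (algebraMap T (T ⊗[R] S) t) = algebraMap T' (T' ⊗[R] S) (algebraMap T T' t) := by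
    intro t
    rw [Algebra.TensorProduct.algebraMap_apply, Algebra.TensorProduct.algebraMap_apply]
    show Algebra.TensorProduct.map (IsScalarTower.toAlgHom R T T') (AlgHom.id R S)
      (t ⊗ₜ[R] (1 : S)) = _
    rw [Algebra.TensorProduct.map_tmul]
    rfl
  have hφe0 : φ e0 = 0 := by
    have h1 : φ (algebraMap T (T ⊗[R] S) f) * φ e0 = 0 := by rw [← map_mul, hfe, map_zero]
    have h2 : IsUnit (φ (algebraMap T (T ⊗[R] S) f)) := by
      rw [hφalg]
      exact (IsLocalization.Away.algebraMap_isUnit f).map _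
    exact (h2.mul_right_eq_zero).mp h1
  refine ⟨T', inferInstance, inferInstance, inferInstance, ψ', φ.toRingHom ∘ e,
    ⟨he.map φ.toRingHom, ?_⟩, fun χ a => ?_⟩
  · have : φ e0 = 1 - ∑ a, φ (e a) := by rw [he0, map_sub, map_one, map_sum]
    rw [this, sub_eq_zero] at hφe0
    exact hφe0.symm
  · show geoEval ψ' χ (φ (e a)) = _
    rw [geoEval_map, hψ', hval]

end Complete

end Groth.Agent.Lib.Helper1.GeoNbhd
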