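import Mathlib
import Groth.Agent.Lib.Helper1.GeoNbhd.SplitIdem
import Groth.Agent.Lib.Helper1.GeoNbhd.SplitFin

/-!
# Splitting an integral algebra on an étale neighbourhood of a prime

The factors cut out by the idempotents of `SplitIdem` have exactly one prime over the point, with
purely inseparable residue field extension.
-/

set_option autoImplicit false
set_option linter.style.haveILetI false
set_option linter.unusedSectionVars false
open Polynomial TensorProduct

namespace Groth.Agent.Lib.Helper1.GeoNbhd

universe u v w x y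

section Factor
variable {R : Type u} [CommRing R] {S : Type v} [CommRing S] [Algebra R S]
  [Algebra.IsIntegral R S] {Ω : Type y} [Field Ω] [IsAlgClosed Ω] [Algebra R Ω]
  {T : Type w} [CommRing T] [Algebra R T] (ψ : T →ₐ[R] Ω)
  (e : (S →ₐ[R] Ω) → T ⊗[R] S) (a : S →ₐ[R] Ω)

/-- the factor of `T ⊗ S` cut out by the idempotent `e a` -/
abbrev Factor : Type (max w v) := (T ⊗[R] S) ⧸ Ideal.span {1 - e a}

variable [DecidableEq (S →ₐ[R] Ω)]
  (hval : ∀ χ b, geoEval ψ χ (e b) = if χ = b then 1 else 0)

include hval in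
theorem geoEval_one_sub : geoEval ψ a (1 - e a) = 0 := by
  rw [map_sub, map_one, hval, if_pos rfl, sub_self]

/-- the geometric point of the factor -/
noncomputable def factorPt : Factor e a →+* Ω :=
  Ideal.Quotient.lift _ (geoEval ψ a : T ⊗[R] S →ₐ[R] Ω).toRingHom (fun x hx => by
    rw [Ideal.mem_span_singleton'] at hx
    obtain ⟨y, rfl⟩ := hx
    rw [map_mul]
    have := geoEval_one_sub ψ e a hval
    rw [show (geoEval ψ a : T ⊗[R] S →ₐ[R] Ω).toRingHom (1 - e a) = geoEval ψ a (1 - e a) from rfl,
      this, mul_zero])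

theorem factorPt_mk (z : T ⊗[R] S) :
    factorPt ψ e a hval (Ideal.Quotient.mk _ z) = geoEval ψ a z := rfl

theorem factorPt_algebraMap (t : T) :
    factorPt ψ e a hval (algebraMap T (Factor e a) t) = ψ t := by
  have : algebraMap T (Factor e a) t = Ideal.Quotient.mk _ (algebraMap T (T ⊗[R] S) t) := rfl
  rw [this, factorPt_mk, Algebra.TensorProduct.algebraMap_apply, geoEval_tmul]
  simp

/-- every point of the factor over `ψ` is the distinguished one -/
theorem eq_factorPt (ρ' : Factor e a →+* Ω)
    (hρ' : ∀ t : T, ρ' (algebraMap T (Factor e a) t) = ψ t) : ρ' = factorPt ψ e a hval := by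
  obtain ⟨χ, hχ⟩ := exists_eq_geoEval ψ (ρ'.comp (Ideal.Quotient.mk _)) (fun t => hρ' t)
  have h1 : ρ' (Ideal.Quotient.mk _ (1 - e a)) = 0 := by
    have : Ideal.Quotient.mk (Ideal.span {1 - e a}) (1 - e a) = 0 :=
      Ideal.Quotient.eq_zero_iff_mem.mpr (Ideal.subset_span rfl)
    rw [this, map_zero]
  have h2 : geoEval ψ χ (1 - e a) = 0 := by
    rw [← hχ]
    exact h1
  have hχa : χ = a := by
    by_contra hne
    rw [map_sub, map_one, hval, if_neg hne, sub_zero] at h2
    exact one_ne_zero h2
  subst hχa
  apply Ideal.Quotient.ringHom_ext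
  exact RingHom.ext (fun z => hχ z)

include hval in
theorem factor_props :
    Algebra.IsIntegral T (Factor e a) ∧
    ∃ (r : PrimeSpectrum (Factor e a))
      (hr : r.asIdeal.comap (algebraMap T (Factor e a)) = RingHom.ker ψ.toRingHom),
      (∀ r' : PrimeSpectrum (Factor e a),
        r'.asIdeal.comap (algebraMap T (Factor e a)) = RingHom.ker ψ.toRingHom → r' = r) ∧
      haveI : (RingHom.ker ψ.toRingHom).IsPrime := RingHom.ker_isPrime _
      letI := (Ideal.ResidueField.map (RingHom.ker ψ.toRingHom) r.asIdeal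
        (algebraMap T (Factor e a)) hr.symm).toAlgebra
      IsPurelyInseparable (RingHom.ker ψ.toRingHom).ResidueField r.asIdeal.ResidueField := by
  haveI hprime : (RingHom.ker ψ.toRingHom).IsPrime := RingHom.ker_isPrime _
  haveI hint : Algebra.IsIntegral T (Factor e a) := inferInstance
  refine ⟨hint, ?_⟩
  set ρa := factorPt ψ e a hval with hρa
  haveI : (RingHom.ker ρa).IsPrime := RingHom.ker_isPrime _
  have hr : (RingHom.ker ρa).comap (algebraMap T (Factor e a)) = RingHom.ker ψ.toRingHom := by
    ext t
    rw [Ideal.mem_comap, RingHom.mem_ker, RingHom.mem_ker, hρa, factorPt_algebraMap]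
    rfl
  refine ⟨⟨RingHom.ker ρa, inferInstance⟩, hr, ?_, ?_⟩
  · intro r' hr'
    haveI := r'.isPrime
    obtain ⟨ρ', hρ'ker, hρ'T⟩ := exists_ringHom_of_comap_eq ψ.toRingHom r'.asIdeal hr'
    have : ρ' = ρa := eq_factorPt ψ e a hval ρ' hρ'T
    apply PrimeSpectrum.ext
    show r'.asIdeal = RingHom.ker ρa
    rw [← hρ'ker, this]
  · show @IsPurelyInseparable (RingHom.ker ψ.toRingHom).ResidueField
      (RingHom.ker ρa).ResidueField _ _ (Ideal.ResidueField.map (RingHom.ker ψ.toRingHom)
        (RingHom.ker ρa) (algebraMap T (Factor e a)) hr.symm).toAlgebra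
    letI algFE : Algebra (RingHom.ker ψ.toRingHom).ResidueField (RingHom.ker ρa).ResidueField :=
      (Ideal.ResidueField.map (RingHom.ker ψ.toRingHom) (RingHom.ker ρa)
        (algebraMap T (Factor e a)) hr.symm).toAlgebra
    haveI : Algebra.IsAlgebraic (RingHom.ker ψ.toRingHom).ResidueField
        (RingHom.ker ρa).ResidueField :=
      isAlgebraic_residueField_map (RingHom.ker ψ.toRingHom) (RingHom.ker ρa) hr.symm
    have hunitψ : (RingHom.ker ψ.toRingHom).primeCompl ≤
        (IsUnit.submonoid Ω).comap ψ.toRingHom := by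
      intro x hx
      exact isUnit_iff_ne_zero.mpr (fun h0 => hx h0)
    letI algFΩ : Algebra (RingHom.ker ψ.toRingHom).ResidueField Ω :=
      (Ideal.ResidueField.lift (RingHom.ker ψ.toRingHom) ψ.toRingHom le_rfl hunitψ).toAlgebra
    have halgFΩ : ∀ t : T, algebraMap (RingHom.ker ψ.toRingHom).ResidueField Ω
        (algebraMap T _ t) = ψ t := fun t =>
      Ideal.ResidueField.lift_algebraMap _ _ _ hunitψ t
    have halgFE : ∀ t : T, algebraMap (RingHom.ker ψ.toRingHom).ResidueField
        (RingHom.ker ρa).ResidueField (algebraMap T _ t) =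
        algebraMap (Factor e a) _ (algebraMap T (Factor e a) t) := fun t =>
      Ideal.ResidueField.map_algebraMap _ _ _ hr.symm t
    have hunitρ : (RingHom.ker ρa).primeCompl ≤ (IsUnit.submonoid Ω).comap ρa := by
      intro x hx
      exact isUnit_iff_ne_zero.mpr (fun h0 => hx h0)
    rw [isPurelyInseparable_iff_finSepDegree_eq_one,
      Field.finSepDegree_eq_of_isAlgClosed _ _ Ω, Nat.card_eq_one_iff_unique]
    constructor
    · refine ⟨fun σ₁ σ₂ => ?_⟩
      apply AlgHom.coe_ringHom_injective
      apply Ideal.ResidueField.ringHom_ext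
      have key : ∀ σ : (RingHom.ker ρa).ResidueField →ₐ[(RingHom.ker ψ.toRingHom).ResidueField] Ω,
          (σ : (RingHom.ker ρa).ResidueField →+* Ω).comp (algebraMap (Factor e a) _) = ρa := by
        intro σ
        apply eq_factorPt ψ e a hval
        intro t
        show σ (algebraMap (Factor e a) _ (algebraMap T (Factor e a) t)) = ψ t
        rw [← halgFE, σ.commutes, halgFΩ]
      rw [key σ₁, key σ₂]
    · refine ⟨{ toRingHom := Ideal.ResidueField.lift (RingHom.ker ρa) ρa le_rfl hunitρ
                commutes' := ?_ }⟩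
      intro x
      have : (Ideal.ResidueField.lift (RingHom.ker ρa) ρa le_rfl hunitρ).comp
          (algebraMap (RingHom.ker ψ.toRingHom).ResidueField (RingHom.ker ρa).ResidueField) =
          algebraMap (RingHom.ker ψ.toRingHom).ResidueField Ω := by
        apply Ideal.ResidueField.ringHom_ext
        ext t
        simp only [RingHom.comp_apply]
        rw [halgFE, Ideal.ResidueField.lift_algebraMap, halgFΩ, hρa, factorPt_algebraMap]
      exact congrFun (congrArg DFunLike.coe this) x

end Factor

end Groth.Agent.Lib.Helper1.GeoNbhd
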